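import Cfsg.Agent.Lib.UnitTwoThree.Iso

/-!
A root killing an anisotropic pure tensor of a block, with small intersection with that block: the chain
argument.
Owner: helper95.
-/

set_option autoImplicit false
set_option linter.unusedSectionVars false

namespace Cfsg.Agent.Lib.UnitTwoThree

open Matrix Kronecker
open Cfsg.Agent.Lib.Subspaces.Transvection Cfsg.Agent.Lib.Subspaces.FormVec
  Cfsg.Agent.Lib.Subspaces.UnitaryForm
  Cfsg.Agent.Lib.TensorMax.Block Cfsg.Agent.Lib.TensorMax.Lemmas Cfsg.Agent.Lib.TensorFormMax.Basic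

variable {F : Type*} [Field F]

local notation "V2" => Fin 2 → F
local notation "V3" => Fin 3 → F
local notation "V" => Fin 2 × Fin 3 → F
local notation:80 g:81 " ⋄ " z:80 => Matrix.mulVec (Units.val g) z

namespace Data

variable {σ : F ≃+* F} {ε : F} {f₁ : (Fin 2 → F) → (Fin 2 → F) → F}
  {f₂ : (Fin 3 → F) → (Fin 3 → F) → F} {B : (Fin 2 × Fin 3 → F) → (Fin 2 × Fin 3 → F) → F}
  {M : Subgroup (GL (Fin 2 × Fin 3) F)} (D : Data σ ε f₁ f₂ B M) [Finite F]
include D

/-- The self-adjoint map of a root on a block. -/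
def Qmap (a : V2) (P : V →ₗ[F] V) : V3 →ₗ[F] V3 := ε • (D.phiL a ∘ₗ P ∘ₗ tensL a)

theorem Qmap_apply (a : V2) (P : V →ₗ[F] V) (u : V3) :
    D.Qmap a P u = ε • phi f₁ a (P (tens a u)) := rfl

theorem fix_exists_ne (x : F) : ∃ s : F, σ s = s ∧ s ≠ 0 ∧ s ≠ x := by
  obtain ⟨r, hr, hr0, hr1⟩ := D.hq
  by_cases h : (1 : F) = x
  · exact ⟨r, hr, hr0, h ▸ hr1⟩
  · exact ⟨1, map_one σ, one_ne_zero, h⟩

/-- Components along and across an anisotropic vector. -/
theorem perp_split {e : V3} (he : f₂ e e ≠ 0) (u : V3) :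
    ∃ (t : F) (u₀ : V3), u = t • e + u₀ ∧ f₂ u₀ e = 0 :=
  ⟨f₂ u e / f₂ e e, u - (f₂ u e / f₂ e e) • e, by rw [add_sub_cancel], by
    rw [form_sub_left (isLinearLeft_of_unitary D.u2), D.u2.smul_left, div_mul_cancel₀ _ he, sub_self]⟩

theorem exists_perp {e : V3} (he : f₂ e e ≠ 0) : ∃ u, f₂ u e = 0 ∧ u ≠ 0 := by
  obtain ⟨w, w', H⟩ := D.exists_hyp_at he
  exact ⟨w, H.we, D.hyp_ne' H⟩

/-- Cayley and Hamilton on the perpendicular plane. -/
theorem cayley {e : V3} (he : f₂ e e ≠ 0) {N : V3 →ₗ[F] V3} (hN : ∀ u v, f₂ (N u) v = f₂ u (N v))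
    (hNe : ∀ u, f₂ (N u) e = 0) :
    ∃ τ δ : F, σ τ = τ ∧ σ δ = δ ∧ ∀ u, f₂ u e = 0 → N (N u) = τ • N u - δ • u := by
  obtain ⟨w, w', H⟩ := D.exists_hyp_at he
  have hw : N w = f₂ (N w) w' • w + f₂ (N w) w • w' := by
    conv_lhs => rw [D.split2 H (N w), hNe, zero_div, zero_smul, add_zero]
  have hd : N w' = f₂ (N w') w' • w + f₂ (N w') w • w' := by
    conv_lhs => rw [D.split2 H (N w'), hNe, zero_div, zero_smul, add_zero]
  have h22 : σ (f₂ (N w') w) = f₂ (N w) w' := by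
    rw [hN w' w, ← D.u2.herm]
  have h11 : σ (f₂ (N w) w') = f₂ (N w') w := by rw [← h22, D.sigma_sigma]
  have h12 : σ (f₂ (N w') w') = f₂ (N w') w' := by
    conv_lhs => rw [hN w' w', ← D.u2.herm]
  have h21 : σ (f₂ (N w) w) = f₂ (N w) w := by
    conv_lhs => rw [hN w w, ← D.u2.herm]
  set n11 := f₂ (N w) w'
  set n21 := f₂ (N w) w
  set n12 := f₂ (N w') w'
  set n22 := f₂ (N w') w
  refine ⟨n11 + n22, n11 * n22 - n12 * n21, by rw [map_add, h11, h22, add_comm], by
    rw [map_sub, map_mul, map_mul, h11, h22, h12, h21]; ring, fun u hu => ?_⟩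
  have hu' : u = f₂ u w' • w + f₂ u w • w' := by
    conv_lhs => rw [D.split2 H u, hu, zero_div, zero_smul, add_zero]
  rw [hu', map_add, map_smul, map_smul, hw, hd]
  simp only [map_add, map_smul]
  rw [hw, hd]
  module

variable {a c : Fin 2 → F} {P : (Fin 2 × Fin 3 → F) →ₗ[F] (Fin 2 × Fin 3 → F)} {e : Fin 3 → F}

theorem Q_e (hPe : P (tens a e) = 0) : D.Qmap a P e = 0 := by
  rw [D.Qmap_apply, hPe, D.phi_zero, smul_zero]

theorem Q_adj (hP : Root σ B M P) (u v : V3) : f₂ (D.Qmap a P u) v = f₂ u (D.Qmap a P v) := by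
  rw [D.Qmap_apply, D.Qmap_apply, D.u2.smul_left, smul_right D.u2, D.hσε, ← D.B_phi, ← D.B_phi']
  linear_combination ε * hP.skew (tens a u) (tens a v)

theorem Q_perp (hP : Root σ B M P) (hPe : P (tens a e) = 0) (u : V3) : f₂ (D.Qmap a P u) e = 0 := by
  rw [D.Q_adj hP, D.Q_e hPe, zero_right D.u2]

theorem Q_split (hPe : P (tens a e) = 0) (t : F) (u₀ : V3) :
    D.Qmap a P (t • e + u₀) = D.Qmap a P u₀ := by
  rw [map_add, map_smul, D.Q_e hPe, smul_zero, zero_add]

theorem step_T (p : Pair f₁ a c) {g : GL (Fin 2 × Fin 3) F} {r : F}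
    (hg : ∀ z, g ⋄ z = z + r • D.PT a z) (u v : V3) :
    g ⋄ (tens a u + P (tens a v)) = tens a (u + r • D.Qmap a P v) + P (tens a v) := by
  rw [hg, D.PT_apply, D.phi_add, D.phi_a_a p, zero_add, D.Qmap_apply, tens_add_right, tens_smul_right,
    tens_smul_right]
  module

theorem step_Y (hP : Root σ B M P) {g : GL (Fin 2 × Fin 3) F} {s : F}
    (hg : ∀ z, g ⋄ z = z + s • P z) (u v : V3) :
    g ⋄ (tens a u + P (tens a v)) = tens a u + P (tens a (v + s • u)) := by
  have _ := D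
  rw [hg, map_add, hP.sq, add_zero, tens_add_right, tens_smul_right, map_add, map_smul]
  module

/-- The chain element acts on the block. -/
theorem chain (hAS : AllScalar M f₁) (p : Pair f₁ a c) (hP : Root σ B M P) (he : f₂ e e ≠ 0)
    (hPe : P (tens a e) = 0) {τ δ r₁ r₂ s : F}
    (hch : ∀ u, f₂ u e = 0 → D.Qmap a P (D.Qmap a P u) = τ • D.Qmap a P u - δ • u)
    (hr₁ : σ r₁ = r₁) (hr₂ : σ r₂ = r₂) (hs : σ s = s) (hd : r₁ * r₂ * δ = -1)
    (ht : r₂ * (1 + s) + r₁ * r₂ * s * τ = 0) :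
    ∀ u, f₂ u e = 0 → ((1 + s) * (1 + s) - r₁ * r₁ * (s * s) * δ - 1) • u +
      (2 * (1 + s) * (r₁ * s) + r₁ * r₁ * (s * s) * τ) • D.Qmap a P u = 0 := by
  set Q := D.Qmap a P with hQdef
  obtain ⟨g1, hg1, h1⟩ := hP.mem s hs
  obtain ⟨g2, hg2, h2⟩ := (D.root_PT p).mem r₁ hr₁
  obtain ⟨g3, hg3, h3⟩ := hP.mem 1 (map_one σ)
  obtain ⟨g4, hg4, h4⟩ := (D.root_PT p).mem r₂ hr₂
  obtain ⟨g5, hg5, h5⟩ := hP.mem (-1) (by rw [map_neg, map_one])
  let U : V3 →ₗ[F] V3 :=
    LinearMap.id + (r₁ * s + r₂ * (1 + s)) • Q + (r₁ * r₂ * s) • (Q ∘ₗ Q)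
  have hU : ∀ u, U u = u + (r₁ * s + r₂ * (1 + s)) • Q u + (r₁ * r₂ * s) • Q (Q u) := fun u => rfl
  have hda : ∀ u, (g5 * g4 * g3 * g2 * g1) ⋄ tens a u = tens a (U u) := by
    intro u
    rw [gl_mul_mulVec, gl_mul_mulVec, gl_mul_mulVec, gl_mul_mulVec,
      show tens a u = tens a u + P (tens a (0 : V3)) by rw [tens_zero_right, map_zero, add_zero],
      D.step_Y hP h1, D.step_T p h2, D.step_Y hP h3, D.step_T p h4, D.step_Y hP h5]
    simp only [← hQdef, zero_add, one_smul, map_add, map_smul, hU]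
    obtain ⟨t, u₀, hu, hu₀⟩ := D.perp_split he u
    have hQu : Q u = Q u₀ := by rw [hu]; exact D.Q_split hPe t u₀
    have hv : s • u + (u + (r₁ * s) • Q u) +
        (-1 : F) • (u + (r₁ * s) • Q u + (r₂ * s) • Q u + r₂ • (Q u + (r₁ * s) • Q (Q u))) =
          (s * t) • e := by
      rw [hQu, hch u₀ hu₀, hu]
      match_scalars
      · ring
      · linear_combination s * hd
      · linear_combination -ht
    have hP0 : P (tens a ((s * t) • e)) = 0 := by
      rw [tens_smul_right, map_smul, hPe, smul_zero]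
    rw [← hv] at hP0
    convert congrArg (fun y => tens a (U u) + y) hP0 using 1
    · rw [hU]
      simp only [tens_add_right, tens_smul_right, map_add, map_smul]
      module
    · rw [add_zero, hU]
  obtain ⟨-, A, μ, r', -, -, hA, hAa, -⟩ := D.stab_block hAS p
    (M.mul_mem (M.mul_mem (M.mul_mem (M.mul_mem hg5 hg4) hg3) hg2) hg1) fun u => by
      rw [hda, D.phi_a_a p]
  have hAU : ∀ u, A ⋄ u = U u := fun u => by
    rw [← D.phi_c_a p (A ⋄ u), ← hAa, hda, D.phi_c_a p]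
  have hQe : Q e = 0 := D.Q_e hPe
  have hUe : U e = e := by rw [hU, hQe, map_zero, smul_zero, smul_zero, add_zero, add_zero]
  have hμ : μ = 1 := by
    have h := hA e e
    rw [hAU, hUe] at h
    exact (mul_eq_right₀ he).1 h.symm
  have hUa : ∀ u v, f₂ (U u) v = f₂ u (U v) := fun u v => by
    simp only [hU, D.u2.add_left, add_right D.u2, D.u2.smul_left, smul_right D.u2, map_add, map_mul, map_one,
      hr₁, hr₂, hs, hQdef, D.Q_adj hP]
  intro u hu
  have hUU : U (U u) = u := by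
    refine sub_eq_zero.1 (D.eq_zero2 fun v => ?_)
    rw [sub_right D.u2, ← hUa, ← hAU, ← hAU, hA, hμ, one_mul, sub_self]
  have hUu : ∀ x, f₂ x e = 0 → U x = (1 + s) • x + (r₁ * s) • Q x := fun x hx => by
    rw [hU, hch x hx]
    match_scalars
    · linear_combination -s * hd
    · linear_combination ht
  have hQu : f₂ (Q u) e = 0 := D.Q_perp hP hPe u
  have hUue : f₂ (U u) e = 0 := by rw [hUa, hUe, hu]
  rw [hUu u hu] at hUU hUue
  rw [hUu _ hUue] at hUU
  simp only [map_add, map_smul, hch u hu] at hUU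
  linear_combination (norm := module) hUU

theorem nonscalar_false (hAS : AllScalar M f₁) (p : Pair f₁ a c) (hP : Root σ B M P) (he : f₂ e e ≠ 0)
    (hPe : P (tens a e) = 0) (hinj : ∀ u, f₂ u e = 0 → D.Qmap a P u = 0 → u = 0)
    (hns : ∀ t : F, ∃ u, f₂ u e = 0 ∧ D.Qmap a P u ≠ t • u) : False := by
  set Q := D.Qmap a P with hQdef
  obtain ⟨τ, δ, hτ, hδ, hch⟩ := D.cayley he (N := Q) (D.Q_adj hP) (D.Q_perp hP hPe)
  have hδ0 : δ ≠ 0 := fun h0 => by
    obtain ⟨u, hu, hne⟩ := hns τ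
    refine hne (sub_eq_zero.1 (hinj _ ?_ ?_))
    · rw [form_sub_left (isLinearLeft_of_unitary D.u2), D.u2.smul_left, D.Q_perp hP hPe u, hu, mul_zero,
        sub_zero]
    · rw [map_sub, map_smul, hch u hu, h0, zero_smul, sub_zero, sub_self]
  obtain ⟨u₁, hu₁, hu₁0⟩ := D.exists_perp he
  have hzero : ∀ x y : F, (∀ u, f₂ u e = 0 → x • u + y • Q u = 0) → x = 0 ∧ y = 0 := by
    intro x y h
    have hy : y = 0 := by
      by_contra hy
      obtain ⟨u, hu, hne⟩ := hns (-x / y)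
      refine hne ?_
      rw [← inv_smul_smul₀ hy (Q u), eq_neg_of_add_eq_zero_right (h u hu), ← neg_smul, smul_smul,
        div_eq_inv_mul]
    refine ⟨?_, hy⟩
    have := h u₁ hu₁
    rw [hy, zero_smul, add_zero, smul_eq_zero, or_iff_left hu₁0] at this
    exact this
  by_cases hτ0 : τ = 0
  · have key : ∀ r₁ : F, σ r₁ = r₁ → r₁ ≠ 0 → r₁ * r₁ * δ = -1 := by
      intro r₁ hr hr0
      obtain ⟨hx, -⟩ := hzero _ _ (D.chain hAS p hP he hPe (τ := τ) (δ := δ) (r₁ := r₁)
        (r₂ := -1 / (δ * r₁)) (s := -1) hch hr (by rw [map_div₀, map_neg, map_one, map_mul, hδ, hr])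
        (by rw [map_neg, map_one]) (by field_simp) (by rw [hτ0]; ring))
      linear_combination -hx
    have hδ1 : δ = -1 := by simpa using key 1 (map_one σ) one_ne_zero
    obtain ⟨rq, hrq, hrq0, hrq1⟩ := D.hq
    have h2 : (2 : F) ≠ 0 := fun h2 => hrq1 (by
      have h := key rq hrq hrq0
      rw [hδ1] at h
      have h' : (rq - 1) * (rq - 1) = 0 := by linear_combination -h + (1 - rq) * h2
      exact sub_eq_zero.1 (mul_self_eq_zero.1 h'))
    obtain ⟨g1, hg1, h1⟩ := hP.mem (-1) (by rw [map_neg, map_one])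
    obtain ⟨g2, hg2, ht2⟩ := (D.root_PT p).mem 1 (map_one σ)
    obtain ⟨g3, hg3, h3⟩ := hP.mem 1 (map_one σ)
    set d := g1 * g2 * g3 * g2 * g1 with hd
    have hdM : d ∈ M := M.mul_mem (M.mul_mem (M.mul_mem (M.mul_mem hg1 hg2) hg3) hg2) hg1
    have hQQ : ∀ x, f₂ x e = 0 → Q (Q x) = x := fun x hx => by
      rw [hch x hx, hτ0, hδ1]; module
    have hdJ : ∀ u v, f₂ u e = 0 → f₂ v e = 0 → d ⋄ (tens a u + P (tens a v)) =
        tens a (v + (2 : F) • Q v - Q u) + P (tens a (-Q v)) := by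
      intro u v hu hv
      rw [hd, gl_mul_mulVec, gl_mul_mulVec, gl_mul_mulVec, gl_mul_mulVec, D.step_Y hP h1, D.step_T p ht2,
        D.step_Y hP h3, D.step_T p ht2, D.step_Y hP h1]
      simp only [← hQdef, map_add, map_smul, hQQ u hu, hQQ v hv]
      congr 1
      · congr 1; module
      · congr 2; module
    have hde : d ⋄ tens a e = tens a e := by
      rw [hd, gl_mul_mulVec, gl_mul_mulVec, gl_mul_mulVec, gl_mul_mulVec]
      have e1 : g1 ⋄ tens a e = tens a e := by rw [h1, hPe, smul_zero, add_zero]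
      have e2 : g2 ⋄ tens a e = tens a e := by
        rw [ht2, D.PT_apply, D.phi_a_a p, tens_zero_right, smul_zero, smul_zero, add_zero]
      have e3 : g3 ⋄ tens a e = tens a e := by rw [h3, hPe, smul_zero, add_zero]
      rw [e1, e2, e3, e2, e1]
    have hda : ∀ u, (d * d) ⋄ tens a u = tens a u := by
      intro u
      obtain ⟨t, u₀, rfl, hu₀⟩ := D.perp_split he u
      have h0 : f₂ (0 : V3) e = 0 := herm_zero_left D.u2 e
      have hmQ : f₂ (-Q u₀) e = 0 := by
        rw [← neg_one_smul F, D.u2.smul_left, D.Q_perp hP hPe, mul_zero]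
      have e1 : d ⋄ tens a u₀ = tens a (-Q u₀) := by
        have := hdJ u₀ 0 hu₀ h0
        simpa [tens_zero_right] using this
      have e2 : d ⋄ tens a (-Q u₀) = tens a u₀ := by
        have := hdJ (-Q u₀) 0 hmQ h0
        simpa [tens_zero_right, hQQ u₀ hu₀] using this
      rw [gl_mul_mulVec, tens_add_right, tens_smul_right, Matrix.mulVec_add, Matrix.mulVec_smul, hde, e1,
        Matrix.mulVec_add, Matrix.mulVec_smul, hde, e2]
    obtain ⟨-, A, μ, r, -, -, hA, hAa, hAc⟩ := D.stab_block hAS p (M.mul_mem hdM hdM) fun u => by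
      rw [hda, D.phi_a_a p]
    have hA1 : ∀ u, A ⋄ u = u := fun u => by rw [← D.phi_c_a p (A ⋄ u), ← hAa, hda, D.phi_c_a p]
    have hμ : μ = 1 := by
      have h := hA e e
      rw [hA1] at h
      exact (mul_eq_right₀ he).1 h.symm
    have hdd : ∀ z, (d * d) ⋄ z = z + r • tens a (phi f₁ a z) := fun z => by
      conv_lhs => rw [D.expand p z, Matrix.mulVec_add, hda, hAc, hA1, hμ, inv_one, one_smul]
      conv_rhs => arg 1; rw [D.expand p z]
      rw [add_assoc]
    obtain ⟨u, hu, hne⟩ := hns (-4 / (2 + r / ε))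
    have h0 : f₂ (0 : V3) e = 0 := herm_zero_left D.u2 e
    have hQu : f₂ (Q u) e = 0 := D.Q_perp hP hPe u
    have hmQ : f₂ (-Q u) e = 0 := by rw [← neg_one_smul F, D.u2.smul_left, hQu, mul_zero]
    have hv2 : f₂ (u + (2 : F) • Q u - Q 0) e = 0 := by
      rw [map_zero, sub_zero, D.u2.add_left, D.u2.smul_left, hu, hQu, mul_zero, add_zero]
    have e1 := hdd (tens a 0 + P (tens a u))
    rw [gl_mul_mulVec, hdJ 0 u h0 hu, hdJ _ (-Q u) hv2 hmQ, D.phi_add, D.phi_a_a p, zero_add] at e1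
    have e2 : phi f₁ a (P (tens a u)) = ε⁻¹ • Q u := by
      rw [hQdef, D.Qmap_apply, inv_smul_smul₀ D.he0]
    rw [e2] at e1
    simp only [map_zero, sub_zero, map_add, map_smul, map_neg, neg_neg, hQQ u hu, tens_zero_right, zero_add]
      at e1
    rw [add_comm (P (tens a u)), add_left_inj, ← tens_smul_right, smul_smul] at e1
    have e3 := congrArg (phi f₁ c) e1
    rw [D.phi_c_a p, D.phi_c_a p] at e3
    have e4 : (2 + r / ε) • Q u = (-4 : F) • u := by
      rw [div_eq_mul_inv]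
      linear_combination (norm := module) -e3
    by_cases hz : 2 + r / ε = 0
    · rw [hz, zero_smul, eq_comm, smul_eq_zero] at e4
      rcases e4 with e4 | e4
      · exact h2 (by
          have : (2 : F) * 2 = 0 := by linear_combination -e4
          exact mul_self_eq_zero.1 this)
      · exact hne (by rw [e4, map_zero, smul_zero])
    · exact hne (by rw [← inv_smul_smul₀ hz (Q u), e4, smul_smul, div_eq_inv_mul (-4 : F)])
  · obtain ⟨s, hs, hs0, hs1⟩ := D.fix_exists_ne (-1)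
    have h1s : 1 + s ≠ 0 := fun h => hs1 (eq_neg_of_add_eq_zero_right h)
    obtain ⟨-, hy⟩ := hzero _ _ (D.chain hAS p hP he hPe (τ := τ) (δ := δ) (r₁ := -(1 + s) / (τ * s))
      (r₂ := τ * s / (δ * (1 + s))) (s := s) hch
      (by rw [map_div₀, map_neg, map_add, map_one, map_mul, hτ, hs])
      (by rw [map_div₀, map_mul, map_mul, map_add, map_one, hτ, hs, hδ]) hs
      (by field_simp) (by field_simp; ring))
    have h' : (1 + s) * (1 + s) = 0 := by
      field_simp at hy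
      linear_combination -hy
    exact h1s (mul_self_eq_zero.1 h')

/-- The scalar case with more than three fixed scalars. -/
theorem scalar_false (hAS : AllScalar M f₁) (p : Pair f₁ a c) (hP : Root σ B M P) (he : f₂ e e ≠ 0)
    (hPe : P (tens a e) = 0) {z : F} (hz : z ≠ 0) (hσz : σ z = z)
    (hQ : ∀ u, f₂ u e = 0 → D.Qmap a P u = z • u) {k : F} (hk : σ k = k) (hk0 : k ≠ 0) (hk1 : k * k ≠ 1) :
    False := by
  have hk' : k ≠ 1 := fun h => hk1 (by rw [h, one_mul])
  have hk'' : k ≠ -1 := fun h => hk1 (by rw [h, neg_mul_neg, one_mul])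
  obtain ⟨π, hπ, hπ0, hπ1, hπk⟩ : ∃ π : F, σ π = π ∧ π ≠ 0 ∧ π ≠ 1 ∧ π ≠ k := by
    by_cases h : (-1 : F) = 1
    · refine ⟨k + 1, by rw [map_add, map_one, hk], fun e0 => hk'' (eq_neg_of_add_eq_zero_left e0),
        fun e0 => hk0 (add_right_cancel (e0.trans (zero_add 1).symm)), fun e0 => ?_⟩
      exact one_ne_zero (add_left_cancel (e0.trans (add_zero k).symm))
    · exact ⟨-1, by rw [map_neg, map_one], neg_ne_zero.2 one_ne_zero, h, fun e0 => hk'' e0.symm⟩
  have hπ' : 1 - π ≠ 0 := sub_ne_zero.2 hπ1.symm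
  set τ := z / (1 - π) with hτdef
  set δ := z * z * π / (1 - π) with hδdef
  set s := k / π - 1 with hsdef
  have hch : ∀ u, f₂ u e = 0 → D.Qmap a P (D.Qmap a P u) = τ • D.Qmap a P u - δ • u := fun u hu => by
    rw [hQ u hu, map_smul, hQ u hu, hτdef, hδdef]
    match_scalars
    field_simp
  have hτ0 : τ ≠ 0 := div_ne_zero hz hπ'
  have hδ0 : δ ≠ 0 := div_ne_zero (mul_ne_zero (mul_ne_zero hz hz) hπ0) hπ'
  have hs0 : s ≠ 0 := sub_ne_zero.2 fun h => hπk ((div_eq_one_iff_eq hπ0).1 h).symm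
  have h1s : 1 + s = k / π := by rw [hsdef]; ring
  have h1s0 : 1 + s ≠ 0 := by rw [h1s]; exact div_ne_zero hk0 hπ0
  have hστ : σ τ = τ := by rw [hτdef, map_div₀, map_sub, map_one, hσz, hπ]
  have hσδ : σ δ = δ := by rw [hδdef, map_div₀, map_mul, map_mul, map_sub, map_one, hσz, hπ]
  have hσs : σ s = s := by rw [hsdef, map_sub, map_div₀, map_one, hk, hπ]
  obtain ⟨u, hu, hu0⟩ := D.exists_perp he
  have h := D.chain hAS p hP he hPe (τ := τ) (δ := δ) (r₁ := -(1 + s) / (τ * s))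
    (r₂ := τ * s / (δ * (1 + s))) (s := s) hch
    (by rw [map_div₀, map_neg, map_add, map_one, map_mul, hστ, hσs])
    (by rw [map_div₀, map_mul, map_mul, map_add, map_one, hστ, hσs, hσδ]) hσs
    (by field_simp) (by field_simp; ring) u hu
  rw [hQ u hu, smul_smul, ← add_smul, smul_eq_zero, or_iff_left hu0] at h
  apply hk1
  have e1 : -(1 + s) / (τ * s) * s = -(1 + s) / τ := by field_simp
  have e2 : ((1 + s) * (1 - z / τ)) * ((1 + s) * (1 - z / τ)) = 1 := by
    have e3 : (-(1 + s) / (τ * s)) * (-(1 + s) / (τ * s)) * (s * s) =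
        (-(1 + s) / τ) * (-(1 + s) / τ) := by rw [← e1]; ring
    have hQ2 : τ * z - δ = z * z := by
      rw [hτdef, hδdef]; field_simp; try ring
    rw [e3, e1] at h
    linear_combination h - (-(1 + s) / τ) * (-(1 + s) / τ) * hQ2
  rw [hτdef, h1s] at e2
  field_simp at e2
  have e4 : π ^ 2 * (k * k - 1) = 0 := by linear_combination e2
  exact sub_eq_zero.1 ((mul_eq_zero.1 e4).resolve_left (pow_ne_zero 2 hπ0))

end Data

end Cfsg.Agent.Lib.UnitTwoThree
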