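import Cfsg.Agent.Lib.TensorFormMax.UnitSide
import Cfsg.Agent.Lib.Subspaces.UnitaryGen

/-!
The tensor product of a hermitian plane and a hermitian 3-space: coordinates and elements of an overgroup of
the stabiliser.
Owner: helper95.
-/

set_option autoImplicit false
set_option linter.unusedSectionVars false

namespace Cfsg.Agent.Lib.UnitTwoThree

open Matrix Kronecker
open Cfsg.Agent.Lib.Subspaces.Transvection Cfsg.Agent.Lib.Subspaces.FormVec
  Cfsg.Agent.Lib.Subspaces.UnitaryForm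
  Cfsg.Agent.Lib.TensorMax.Block Cfsg.Agent.Lib.TensorMax.Lemmas Cfsg.Agent.Lib.TensorFormMax.Basic

variable {F : Type*} [Field F]

local notation "V2" => Fin 2 → F
local notation "V3" => Fin 3 → F
local notation "V" => Fin 2 × Fin 3 → F
local notation:80 g:81 " ⋄ " z:80 => Matrix.mulVec (Units.val g) z

/-- An overgroup of the stabiliser of the tensor product of two hermitian forms. -/
structure Data (σ : F ≃+* F) (ε : F) (f₁ : V2 → V2 → F) (f₂ : V3 → V3 → F) (B : V → V → F)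
    (M : Subgroup (GL (Fin 2 × Fin 3) F)) : Prop where
  u1 : Cfsg.Geo.IsUnitaryForm σ f₁
  u2 : Cfsg.Geo.IsUnitaryForm σ f₂
  uB : Cfsg.Geo.IsUnitaryForm σ B
  he0 : ε ≠ 0
  hσε : σ ε = -ε
  B_tens : ∀ u v x y, B (tens u x) (tens v y) = f₁ u v * f₂ x y
  iso : ∀ g ∈ M, ∀ x y, B (g ⋄ x) (g ⋄ y) = B x y
  stab : ∀ g ∈ Cfsg.Geo.kroneckerSubgroup 2 3 F, (Units.val g).det = 1 →
    (∀ x y, B (g ⋄ x) (g ⋄ y) = B x y) → g ∈ M
  det1 : ∀ g ∈ M, (Units.val g).det = 1
  hq : ∃ r : F, σ r = r ∧ r ≠ 0 ∧ r ≠ 1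

/-- Contraction of the first factor against `b`. -/
def phi (f₁ : V2 → V2 → F) (b : V2) (z : V) : V3 := fun j => f₁ (fun i => z (i, j)) b

/-- A hyperbolic pair. -/
structure Pair (f₁ : V2 → V2 → F) (a c : V2) : Prop where
  aa : f₁ a a = 0
  cc : f₁ c c = 0
  ac : f₁ a c = 1
  ca : f₁ c a = 1

/-- A hyperbolic pair and a vector orthogonal to it. -/
structure Hyp (f₂ : V3 → V3 → F) (w e w' : V3) : Prop where
  ww : f₂ w w = 0
  dd : f₂ w' w' = 0
  wd : f₂ w w' = 1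
  dw : f₂ w' w = 1
  ew : f₂ e w = 0
  ed : f₂ e w' = 0
  we : f₂ w e = 0
  de : f₂ w' e = 0
  ee : f₂ e e ≠ 0

/-- `M` has the element `z ↦ z + a ⊗ A (phi a z)`. -/
def InR (M : Subgroup (GL (Fin 2 × Fin 3) F)) (f₁ : V2 → V2 → F) (a : V2) (A : V3 →ₗ[F] V3) : Prop :=
  ∃ g ∈ M, ∀ z : V, g ⋄ z = z + tens a (A (phi f₁ a z))

/-- The elements of the unipotent radical of the stabiliser of a block are the obvious ones. -/
def AllScalar (M : Subgroup (GL (Fin 2 × Fin 3) F)) (f₁ : V2 → V2 → F) : Prop :=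
  ∀ a : V2, a ≠ 0 → f₁ a a = 0 → ∀ A : V3 →ₗ[F] V3, InR M f₁ a A → ∃ r : F, ∀ x, A x = r • x

/-- A skew square zero map whose real multiples give elements of `M`. -/
structure Root (σ : F ≃+* F) (B : V → V → F) (M : Subgroup (GL (Fin 2 × Fin 3) F)) (P : V →ₗ[F] V) :
    Prop where
  sq : ∀ z, P (P z) = 0
  skew : ∀ z z', B (P z) z' + B z (P z') = 0
  mem : ∀ s : F, σ s = s → ∃ g ∈ M, ∀ z : V, g ⋄ z = z + s • P z

/-- An invertible matrix from an injective linear map. -/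
theorem exists_gl {ι : Type} [Fintype ι] [DecidableEq ι] (L : (ι → F) →ₗ[F] (ι → F))
    (h : ∀ x, L x = 0 → x = 0) : ∃ g : GL ι F, ∀ x, g ⋄ x = L x := by
  have hinj : Function.Injective (LinearMap.toMatrix' L).mulVec := fun x y e => by
    simp only [LinearMap.toMatrix'_mulVec] at e
    exact sub_eq_zero.1 (h _ (by rw [map_sub, e, sub_self]))
  obtain ⟨g, hg⟩ := Matrix.mulVec_injective_iff_isUnit.1 hinj
  exact ⟨g, fun x => by rw [hg, LinearMap.toMatrix'_mulVec]⟩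

/-- A unipotent matrix of depth two has determinant one. -/
theorem det_of_sq {ι : Type} [Fintype ι] [DecidableEq ι] [Finite F] {N : Matrix ι ι F} (hN : N * N = 0) :
    (1 + N).det = 1 := by
  obtain ⟨p, hp⟩ := CharP.exists F
  have hp' : p.Prime := (CharP.char_is_prime_or_zero F p).resolve_right (CharP.char_ne_zero_of_finite F p)
  haveI := Fact.mk hp'
  have hpow : ∀ n : ℕ, (1 + N) ^ n = 1 + (n : F) • N := by
    intro n
    induction n with
    | zero => simp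
    | succ n ih =>
      rw [pow_succ, ih, add_mul, one_mul, smul_mul_assoc, mul_add, mul_one, hN, add_zero, Nat.cast_add,
        Nat.cast_one, add_smul, one_smul]
      abel
  have h := congrArg Matrix.det (hpow p)
  rw [CharP.cast_eq_zero F p, zero_smul, add_zero, det_pow, det_one] at h
  have h2 : ((1 + N).det - 1) ^ p = 0 := by rw [sub_pow_char, h, one_pow, sub_self]
  exact sub_eq_zero.1 ((pow_eq_zero_iff hp'.ne_zero).1 h2)

theorem kronGL_mulVec {m k : ℕ} (β : GL (Fin m) F) (A : GL (Fin k) F) (u : Fin m → F) (x : Fin k → F) :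
    kronGL β A ⋄ tens u x = tens (β ⋄ u) (A ⋄ x) := kron_mulVec_tens _ _ u x

theorem det_kronGL {m k : ℕ} (β : GL (Fin m) F) (A : GL (Fin k) F) :
    (Units.val (kronGL β A)).det = (Units.val β).det ^ k * (Units.val A).det ^ m := by
  show (Units.val β ⊗ₖ Units.val A).det = _
  rw [det_kronecker, Fintype.card_fin, Fintype.card_fin]

/-- `tens a` as a linear map. -/
def tensL (a : V2) : V3 →ₗ[F] V where
  toFun x := tens a x
  map_add' := tens_add_right a
  map_smul' c x := by rw [RingHom.id_apply, tens_smul_right]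

theorem tensL_apply (a : V2) (x : V3) : tensL a x = tens a x := rfl

/-- The map of a matrix. -/
def gLin (g : GL (Fin 2 × Fin 3) F) : V →ₗ[F] V := Matrix.mulVecLin (Units.val g)

theorem gLin_apply (g : GL (Fin 2 × Fin 3) F) (z : V) : gLin g z = g ⋄ z := rfl

/-- The conjugate of a root. -/
def conjP (g : GL (Fin 2 × Fin 3) F) (P : V →ₗ[F] V) : V →ₗ[F] V := gLin g ∘ₗ P ∘ₗ gLin g⁻¹

theorem conjP_apply (g : GL (Fin 2 × Fin 3) F) (P : V →ₗ[F] V) (z : V) :
    conjP g P z = g ⋄ P (g⁻¹ ⋄ z) := rfl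

/-- The root of the unitary transvection at `w` in the second factor. -/
noncomputable def RW (ε : F) (f₂ : V3 → V3 → F) (w : V3) : V →ₗ[F] V :=
  gLin (kronGL (1 : GL (Fin 2) F) (tv w (ε • formVec f₂ w))) - LinearMap.id

namespace Data

variable {σ : F ≃+* F} {ε : F} {f₁ : (Fin 2 → F) → (Fin 2 → F) → F}
  {f₂ : (Fin 3 → F) → (Fin 3 → F) → F} {B : (Fin 2 × Fin 3 → F) → (Fin 2 × Fin 3 → F) → F}
  {M : Subgroup (GL (Fin 2 × Fin 3) F)} (D : Data σ ε f₁ f₂ B M)
include D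

theorem sigma_sigma (x : F) : σ (σ x) = x := D.u1.involutive x

theorem skew_ε : ε + σ ε = 0 := by rw [D.hσε, add_neg_cancel]

theorem phi_add (b : V2) (z z' : V) : phi f₁ b (z + z') = phi f₁ b z + phi f₁ b z' :=
  funext fun j => D.u1.add_left (fun i => z (i, j)) (fun i => z' (i, j)) b

theorem phi_smul (b : V2) (t : F) (z : V) : phi f₁ b (t • z) = t • phi f₁ b z :=
  funext fun j => D.u1.smul_left t (fun i => z (i, j)) b

/-- `phi b` as a linear map. -/
def phiL (b : V2) : V →ₗ[F] V3 where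
  toFun z := phi f₁ b z
  map_add' := D.phi_add b
  map_smul' t z := D.phi_smul b t z

theorem phiL_apply (b : V2) (z : V) : D.phiL b z = phi f₁ b z := rfl

theorem phi_zero (b : V2) : phi f₁ b 0 = 0 := map_zero (D.phiL b)

theorem phi_sub (b : V2) (z z' : V) : phi f₁ b (z - z') = phi f₁ b z - phi f₁ b z' :=
  map_sub (D.phiL b) z z'

theorem phi_neg (b : V2) (z : V) : phi f₁ b (-z) = -phi f₁ b z := map_neg (D.phiL b) z

theorem phi_tens (b u : V2) (x : V3) : phi f₁ b (tens u x) = f₁ u b • x := by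
  funext j
  show f₁ (fun i => u i * x j) b = f₁ u b * x j
  rw [show (fun i => u i * x j) = x j • u from funext fun i => by simp [mul_comm], D.u1.smul_left, mul_comm]

theorem phi_a_a {a c : V2} (p : Pair f₁ a c) (x : V3) : phi f₁ a (tens a x) = 0 := by
  rw [D.phi_tens, p.aa, zero_smul]

theorem phi_a_c {a c : V2} (p : Pair f₁ a c) (x : V3) : phi f₁ a (tens c x) = x := by
  rw [D.phi_tens, p.ca, one_smul]

theorem phi_c_a {a c : V2} (p : Pair f₁ a c) (x : V3) : phi f₁ c (tens a x) = x := by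
  rw [D.phi_tens, p.ac, one_smul]

theorem phi_c_c {a c : V2} (p : Pair f₁ a c) (x : V3) : phi f₁ c (tens c x) = 0 := by
  rw [D.phi_tens, p.cc, zero_smul]

theorem pair_swap {a c : V2} (p : Pair f₁ a c) : Pair f₁ c a := ⟨p.cc, p.aa, p.ca, p.ac⟩

theorem pair_ne {a c : V2} (p : Pair f₁ a c) : a ≠ 0 := fun e => by
  have := p.ac
  rw [e, herm_zero_left D.u1] at this
  exact zero_ne_one this

theorem pair_third {a c : V2} (p : Pair f₁ a c) : Pair f₁ (c + ε • a) a where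
  aa := by rw [expand_add_smul D.u1, p.cc, p.ac, p.aa, mul_one, D.skew_ε, mul_zero, add_zero, add_zero]
  cc := p.aa
  ac := by rw [D.u1.add_left, D.u1.smul_left, p.ca, p.aa, mul_zero, add_zero]
  ca := by rw [add_right D.u1, smul_right D.u1, p.ac, p.aa, mul_zero, add_zero]

theorem split1 {a c : V2} (p : Pair f₁ a c) (u : V2) : u = f₁ u c • a + f₁ u a • c := by
  have hind : LinearIndependent F ![a, c] := by
    rw [LinearIndependent.pair_iff]
    intro s t hst
    have h1 := congrArg (fun x => f₁ x c) hst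
    have h2 := congrArg (fun x => f₁ x a) hst
    simp only [D.u1.add_left, D.u1.smul_left, p.ac, p.cc, p.aa, p.ca, herm_zero_left D.u1, mul_one, mul_zero,
      add_zero, zero_add] at h1 h2
    exact ⟨h1, h2⟩
  have htop := hind.span_eq_top_of_card_eq_finrank (by rw [Fintype.card_fin, Module.finrank_fin_fun])
  obtain ⟨co, hco⟩ := (Submodule.mem_span_range_iff_exists_fun F).1 (htop ▸ Submodule.mem_top (x := u))
  simp only [Fin.sum_univ_two, Matrix.cons_val_zero, Matrix.cons_val_one] at hco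
  rw [← hco]
  simp only [D.u1.add_left, D.u1.smul_left, p.ac, p.cc, p.aa, p.ca, mul_one, mul_zero, add_zero, zero_add]

theorem form1_expand {a c : V2} (p : Pair f₁ a c) (u v : V2) :
    f₁ u v = f₁ u c * σ (f₁ v a) + f₁ u a * σ (f₁ v c) := by
  conv_lhs => rw [D.split1 p u]
  rw [D.u1.add_left, D.u1.smul_left, D.u1.smul_left, D.u1.herm a v, D.u1.herm c v]

theorem exists_pair [Finite F] {a : V2} (ha : a ≠ 0) (haa : f₁ a a = 0) : ∃ c, Pair f₁ a c := by
  obtain ⟨c, hc, hca⟩ := TensorFormMax.UnitSide.exists_hyperbolic D.u1 ha haa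
  exact ⟨c, haa, hc, by rw [D.u1.herm, hca, map_one], hca⟩

theorem exists_pair' [Finite F] : ∃ a c, Pair f₁ a c := by
  obtain ⟨a, ha, haa, -⟩ := TensorFormMax.UnitSide.exists_iso_orth D.u1 (fun r hr => exists_norm D.u1 hr)
    (![] : Fin 0 → V2) le_rfl
  exact ⟨a, D.exists_pair ha haa⟩

theorem expand {a c : V2} (p : Pair f₁ a c) (z : V) :
    z = tens a (phi f₁ c z) + tens c (phi f₁ a z) := by
  funext ⟨i, j⟩
  have := congrFun (D.split1 p fun i => z (i, j)) i
  simp only [Pi.add_apply, Pi.smul_apply, smul_eq_mul] at this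
  simp only [Pi.add_apply, tens, phi]
  rw [this]
  ring

theorem ext_pair {W : Type*} [AddCommGroup W] [Module F W] {a c : V2} (p : Pair f₁ a c) {L L' : V →ₗ[F] W}
    (h1 : ∀ x, L (tens a x) = L' (tens a x)) (h2 : ∀ x, L (tens c x) = L' (tens c x)) : L = L' :=
  LinearMap.ext fun z => by rw [D.expand p z, map_add, map_add, h1, h2]

theorem eq_of_phi {a c : V2} (p : Pair f₁ a c) {z z' : V} (h1 : phi f₁ a z = phi f₁ a z')
    (h2 : phi f₁ c z = phi f₁ c z') : z = z' := by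
  rw [D.expand p z, D.expand p z', h1, h2]

theorem mem_block {a c : V2} (p : Pair f₁ a c) {z : V} (h : phi f₁ a z = 0) : z = tens a (phi f₁ c z) := by
  conv_lhs => rw [D.expand p z, h, tens_zero_right, add_zero]

theorem B_phi [Finite F] (b : V2) (z : V) (x : V3) : B z (tens b x) = f₂ (phi f₁ b z) x := by
  obtain ⟨a, c, p⟩ := D.exists_pair'
  conv_lhs => rw [D.expand p z]
  conv_rhs => rw [D.expand p z]
  rw [D.uB.add_left, D.B_tens, D.B_tens, D.phi_add, D.phi_tens, D.phi_tens, D.u2.add_left, D.u2.smul_left,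
    D.u2.smul_left]

theorem B_phi' [Finite F] (b : V2) (x : V3) (z : V) : B (tens b x) z = f₂ x (phi f₁ b z) := by
  rw [D.uB.herm, D.B_phi, ← D.u2.herm]

/-! ### The hyperbolic frame -/

theorem eq_zero2 {x : V3} (h : ∀ u, f₂ u x = 0) : x = 0 := TensorFormMax.UnitSide.eq_zero_of_left D.u2 h

theorem hyp_indep {w e w' : V3} (ww : f₂ w w = 0) (dd : f₂ w' w' = 0) (wd : f₂ w w' = 1) (dw : f₂ w' w = 1)
    (ew : f₂ e w = 0) (ed : f₂ e w' = 0) (he : e ≠ 0) :
    Submodule.span F (Set.range ![w, e, w']) = ⊤ := by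
  refine LinearIndependent.span_eq_top_of_card_eq_finrank ?_
    (by rw [Fintype.card_fin, Module.finrank_fin_fun])
  rw [Fintype.linearIndependent_iff]
  intro g hg
  simp only [Fin.sum_univ_three, Matrix.cons_val_zero, Matrix.cons_val_one, Matrix.cons_val_two,
    Matrix.tail_cons, Matrix.head_cons] at hg
  have h1 := congrArg (fun x => f₂ x w') hg
  have h2 := congrArg (fun x => f₂ x w) hg
  simp only [D.u2.add_left, D.u2.smul_left, ww, dd, wd, dw, ew, ed, herm_zero_left D.u2, mul_one, mul_zero,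
    add_zero, zero_add] at h1 h2
  rw [h1, h2, zero_smul, zero_smul, zero_add, add_zero, smul_eq_zero, or_iff_left he] at hg
  intro i
  fin_cases i
  exacts [h1, hg, h2]

theorem hyp_mk {w e w' : V3} (ww : f₂ w w = 0) (dd : f₂ w' w' = 0) (wd : f₂ w w' = 1) (dw : f₂ w' w = 1)
    (ew : f₂ e w = 0) (ed : f₂ e w' = 0) (he : e ≠ 0) : Hyp f₂ w e w' where
  ww := ww
  dd := dd
  wd := wd
  dw := dw
  ew := ew
  ed := ed
  we := swap_eq_zero D.u2 ew
  de := swap_eq_zero D.u2 ed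
  ee := fun hee => he (D.eq_zero2 fun u => by
    obtain ⟨co, hco⟩ := (Submodule.mem_span_range_iff_exists_fun F).1
      ((D.hyp_indep ww dd wd dw ew ed he) ▸ Submodule.mem_top (x := u))
    simp only [Fin.sum_univ_three, Matrix.cons_val_zero, Matrix.cons_val_one, Matrix.cons_val_two,
      Matrix.tail_cons, Matrix.head_cons] at hco
    rw [← hco, D.u2.add_left, D.u2.add_left, D.u2.smul_left, D.u2.smul_left, D.u2.smul_left, hee,
      swap_eq_zero D.u2 ew, swap_eq_zero D.u2 ed]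
    ring)

theorem hyp_swap {w e w' : V3} (H : Hyp f₂ w e w') : Hyp f₂ w' e w :=
  ⟨H.dd, H.ww, H.dw, H.wd, H.ed, H.ew, H.de, H.we, H.ee⟩

theorem hyp_ne {w e w' : V3} (H : Hyp f₂ w e w') : e ≠ 0 := fun h => H.ee (by rw [h, herm_zero_left D.u2])

theorem hyp_ne' {w e w' : V3} (H : Hyp f₂ w e w') : w ≠ 0 := fun h => by
  have := H.wd
  rw [h, herm_zero_left D.u2] at this
  exact zero_ne_one this

theorem split2 {w e w' : V3} (H : Hyp f₂ w e w') (x : V3) :
    x = f₂ x w' • w + (f₂ x e / f₂ e e) • e + f₂ x w • w' := by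
  obtain ⟨co, hco⟩ := (Submodule.mem_span_range_iff_exists_fun F).1
    ((D.hyp_indep H.ww H.dd H.wd H.dw H.ew H.ed (D.hyp_ne H)) ▸ Submodule.mem_top (x := x))
  simp only [Fin.sum_univ_three, Matrix.cons_val_zero, Matrix.cons_val_one, Matrix.cons_val_two,
    Matrix.tail_cons, Matrix.head_cons] at hco
  rw [← hco]
  simp only [D.u2.add_left, D.u2.smul_left, H.ww, H.dd, H.wd, H.dw, H.ew, H.ed, H.we, H.de, mul_one, mul_zero,
    add_zero, zero_add, mul_div_assoc, div_self H.ee]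

theorem ext2 {W : Type*} [AddCommGroup W] [Module F W] {w e w' : V3} (H : Hyp f₂ w e w')
    {L L' : V3 →ₗ[F] W} (h1 : L w = L' w) (h2 : L e = L' e) (h3 : L w' = L' w') : L = L' :=
  LinearMap.ext fun x => by
    rw [D.split2 H x]
    simp only [map_add, map_smul, h1, h2, h3]

theorem exists_hyp [Finite F] {w : V3} (hw : w ≠ 0) (hww : f₂ w w = 0) : ∃ e w', Hyp f₂ w e w' := by
  obtain ⟨w', hd, hdw⟩ := TensorFormMax.UnitSide.exists_hyperbolic D.u2 hw hww
  obtain ⟨e, he, heo⟩ := TensorFormMax.UnitSide.exists_orth D.u2 (![] : Fin 0 → V3) ![w, w'] (by norm_num)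
  exact ⟨e, w', D.hyp_mk hww hd (by rw [D.u2.herm, hdw, map_one]) hdw (heo 0) (heo 1)
    fun h => he (by rw [h]; exact Submodule.zero_mem _)⟩

theorem exists_hyp_at [Finite F] {e : V3} (he : f₂ e e ≠ 0) : ∃ w w', Hyp f₂ w e w' := by
  obtain ⟨w, hw, hww, hwo⟩ := TensorFormMax.UnitSide.exists_iso_orth D.u2 (fun r hr => exists_norm D.u2 hr)
    ![e] (by norm_num)
  have hwe : f₂ w e = 0 := hwo 0
  obtain ⟨t, ht, htw⟩ := dual_right D.u2 (S := Submodule.span F {e}) (z := w) fun hm => by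
    obtain ⟨d, rfl⟩ := Submodule.mem_span_singleton.1 hm
    rw [D.u2.smul_left] at hwe
    exact hw (by rw [(mul_eq_zero.1 hwe).resolve_right he, zero_smul])
  have hte := ht e (Submodule.mem_span_singleton_self e)
  have hwt : f₂ w t = 1 := by rw [D.u2.herm, htw, map_one]
  obtain ⟨d, -, hd⟩ := exists_isotropic_shift D.u2 hww (z := t) (by rw [hwt]; exact one_ne_zero)
  refine ⟨w, t + d • w, D.hyp_mk hww hd ?_ ?_ (swap_eq_zero D.u2 hwe) ?_
    fun h => he (by rw [h, herm_zero_left D.u2])⟩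
  · rw [add_right D.u2, smul_right D.u2, hwt, hww, mul_zero, add_zero]
  · rw [D.u2.add_left, D.u2.smul_left, htw, hww, mul_zero, add_zero]
  · rw [add_right D.u2, smul_right D.u2, swap_eq_zero D.u2 hte, swap_eq_zero D.u2 hwe, mul_zero, add_zero]

/-! ### Elements of `M` -/

theorem mem_kron [Finite F] (β : GL (Fin 2) F) (A : GL (Fin 3) F) {μ ν : F} (hμν : μ * ν = 1)
    (h1 : ∀ u v, f₁ (β ⋄ u) (β ⋄ v) = μ * f₁ u v) (h2 : ∀ x y, f₂ (A ⋄ x) (A ⋄ y) = ν * f₂ x y)
    (hdet : (Units.val β).det ^ 3 * (Units.val A).det ^ 2 = 1) : kronGL β A ∈ M := by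
  obtain ⟨a, c, p⟩ := D.exists_pair'
  refine D.stab _ (kronGL_mem β A) (by rw [det_kronGL, hdet]) fun x y => ?_
  rw [D.expand p x, D.expand p y]
  simp only [Matrix.mulVec_add, kronGL_mulVec, D.uB.add_left, add_right D.uB, D.B_tens, h1, h2]
  calc _ = (μ * ν) * (f₁ a a * f₂ (phi f₁ c x) (phi f₁ c y) + f₁ a c * f₂ (phi f₁ c x) (phi f₁ a y) +
        (f₁ c a * f₂ (phi f₁ a x) (phi f₁ c y) + f₁ c c * f₂ (phi f₁ a x) (phi f₁ a y))) := by ring
    _ = _ := by rw [hμν, one_mul]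

theorem mem_side1 [Finite F] {β : GL (Fin 2) F} (h1 : ∀ u v, f₁ (β ⋄ u) (β ⋄ v) = f₁ u v)
    (hdet : (Units.val β).det = 1) : kronGL β (1 : GL (Fin 3) F) ∈ M :=
  D.mem_kron β 1 (μ := 1) (ν := 1) (one_mul 1) (fun u v => by rw [h1, one_mul])
    (fun x y => by rw [Units.val_one, one_mulVec, one_mulVec, one_mul])
    (by rw [hdet, Units.val_one, det_one, one_pow, one_pow, one_mul])

theorem mem_side2 [Finite F] {A : GL (Fin 3) F} (h2 : ∀ x y, f₂ (A ⋄ x) (A ⋄ y) = f₂ x y)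
    (hdet : (Units.val A).det = 1) : kronGL (1 : GL (Fin 2) F) A ∈ M :=
  D.mem_kron 1 A (μ := 1) (ν := 1) (one_mul 1)
    (fun u v => by rw [Units.val_one, one_mulVec, one_mulVec, one_mul]) (fun x y => by rw [h2, one_mul])
    (by rw [hdet, Units.val_one, det_one, one_pow, one_pow, one_mul])

theorem side1_tens (β : GL (Fin 2) F) (u : V2) (x : V3) :
    kronGL β (1 : GL (Fin 3) F) ⋄ tens u x = tens (β ⋄ u) x := by
  have _ := D
  rw [kronGL_mulVec, Units.val_one, one_mulVec]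

theorem side2_tens (A : GL (Fin 3) F) (u : V2) (x : V3) :
    kronGL (1 : GL (Fin 2) F) A ⋄ tens u x = tens u (A ⋄ x) := by
  have _ := D
  rw [kronGL_mulVec, Units.val_one, one_mulVec]

theorem phi_side2 [Finite F] (A : GL (Fin 3) F) (b : V2) (z : V) :
    phi f₁ b (kronGL (1 : GL (Fin 2) F) A ⋄ z) = A ⋄ phi f₁ b z := by
  obtain ⟨a, c, p⟩ := D.exists_pair'
  rw [D.expand p z]
  simp only [Matrix.mulVec_add, D.side2_tens, D.phi_add, D.phi_tens, Matrix.mulVec_smul]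

theorem side1_tv [Finite F] {a : V2} (ha : f₁ a a = 0) {γ : F} (hγ : γ + σ γ = 0) :
    kronGL (tv a (γ • formVec f₁ a)) (1 : GL (Fin 3) F) ∈ M :=
  D.mem_side1 (utv_isometry D.u1 ha hγ) (det_tv _ _)

theorem side2_tv [Finite F] {w : V3} (hw : f₂ w w = 0) {γ : F} (hγ : γ + σ γ = 0) :
    kronGL (1 : GL (Fin 2) F) (tv w (γ • formVec f₂ w)) ∈ M :=
  D.mem_side2 (utv_isometry D.u2 hw hγ) (det_tv _ _)

theorem side1_tv_apply [Finite F] {a c : V2} (p : Pair f₁ a c) (γ : F) (z : V) :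
    kronGL (tv a (γ • formVec f₁ a)) (1 : GL (Fin 3) F) ⋄ z = z + γ • tens a (phi f₁ a z) := by
  conv_lhs => rw [D.expand p z]
  conv_rhs => arg 1; rw [D.expand p z]
  rw [Matrix.mulVec_add, D.side1_tens, D.side1_tens, utv_mulVec D.u1 p.aa, utv_mulVec D.u1 p.aa, p.aa, p.ca]
  simp only [tens_add_left, tens_smul_left, mul_zero, zero_smul, add_zero, mul_one]
  rw [add_assoc]

/-! ### Roots -/

theorem iso_left {g : GL (Fin 2 × Fin 3) F} (hg : g ∈ M) (x y : V) : B (g ⋄ x) y = B x (g⁻¹ ⋄ y) := by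
  conv_lhs => rw [← gl_mulVec_inv g y]
  exact D.iso g hg _ _

theorem iso_right {g : GL (Fin 2 × Fin 3) F} (hg : g ∈ M) (x y : V) : B x (g ⋄ y) = B (g⁻¹ ⋄ x) y := by
  conv_lhs => rw [← gl_mulVec_inv g x]
  exact D.iso g hg _ _

theorem root_conj {P : V →ₗ[F] V} (hP : Root σ B M P) {g : GL (Fin 2 × Fin 3) F} (hg : g ∈ M) :
    Root σ B M (conjP g P) where
  sq z := by rw [conjP_apply, conjP_apply, gl_inv_mulVec, hP.sq, Matrix.mulVec_zero]
  skew z z' := by rw [conjP_apply, conjP_apply, D.iso_left hg, D.iso_right hg, hP.skew]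
  mem s hs := by
    obtain ⟨h, hh, hz⟩ := hP.mem s hs
    refine ⟨g * h * g⁻¹, M.mul_mem (M.mul_mem hg hh) (M.inv_mem hg), fun z => ?_⟩
    rw [gl_mul_mulVec, gl_mul_mulVec, hz, Matrix.mulVec_add, Matrix.mulVec_smul, gl_mulVec_inv,
      conjP_apply]

theorem root_add {P Q : V →ₗ[F] V} (hP : Root σ B M P) (hQ : Root σ B M Q) (hPQ : ∀ z, P (Q z) = 0)
    (hQP : ∀ z, Q (P z) = 0) : Root σ B M (P + Q) where
  sq z := by simp only [LinearMap.add_apply, map_add, hP.sq, hQ.sq, hPQ, hQP, add_zero]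
  skew z z' := by
    simp only [LinearMap.add_apply, D.uB.add_left, add_right D.uB]
    linear_combination hP.skew z z' + hQ.skew z z'
  mem s hs := by
    obtain ⟨g, hg, hgz⟩ := hP.mem s hs
    obtain ⟨h, hh, hhz⟩ := hQ.mem s hs
    refine ⟨g * h, M.mul_mem hg hh, fun z => ?_⟩
    rw [gl_mul_mulVec, hhz, hgz, map_add, map_smul, hPQ, smul_zero, add_zero, LinearMap.add_apply, smul_add]
    abel

theorem root_smul {P : V →ₗ[F] V} (hP : Root σ B M P) {t : F} (ht : σ t = t) : Root σ B M (t • P) where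
  sq z := by simp only [LinearMap.smul_apply, map_smul, hP.sq, smul_zero]
  skew z z' := by
    rw [LinearMap.smul_apply, LinearMap.smul_apply, D.uB.smul_left, smul_right D.uB, ht, ← mul_add, hP.skew,
      mul_zero]
  mem s hs := by
    obtain ⟨g, hg, hz⟩ := hP.mem (s * t) (by rw [map_mul, hs, ht])
    exact ⟨g, hg, fun z => by rw [hz, LinearMap.smul_apply, smul_smul]⟩

theorem root_sub {P Q : V →ₗ[F] V} (hP : Root σ B M P) (hQ : Root σ B M Q) (hPQ : ∀ z, P (Q z) = 0)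
    (hQP : ∀ z, Q (P z) = 0) : Root σ B M (P - Q) := by
  have h := D.root_add hP (D.root_smul hQ (t := -1) (by rw [map_neg, map_one]))
    (fun z => by simp [hPQ]) (fun z => by simp [hQP])
  convert h using 1
  exact LinearMap.ext fun z => by simp [sub_eq_add_neg]

/-- The root of the unitary transvection at `a` in the first factor. -/
def PT (a : V2) : V →ₗ[F] V := ε • (tensL a ∘ₗ D.phiL a)

theorem PT_apply (a : V2) (z : V) : D.PT a z = ε • tens a (phi f₁ a z) := rfl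

theorem root_PT [Finite F] {a c : V2} (p : Pair f₁ a c) : Root σ B M (D.PT a) where
  sq z := by rw [D.PT_apply, D.PT_apply, D.phi_smul, D.phi_a_a p, smul_zero, tens_zero_right, smul_zero]
  skew z z' := by
    rw [D.PT_apply, D.PT_apply, D.uB.smul_left, smul_right D.uB, D.B_phi, D.B_phi', D.hσε]
    ring
  mem s hs := by
    refine ⟨_, D.side1_tv p.aa (γ := s * ε) (by rw [map_mul, hs, D.hσε]; ring), fun z => ?_⟩
    rw [D.side1_tv_apply p, D.PT_apply, smul_smul]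

theorem RW_tens [Finite F] {w : V3} (hw : f₂ w w = 0) (u : V2) (x : V3) :
    RW ε f₂ w (tens u x) = (ε * f₂ x w) • tens u w := by
  show kronGL (1 : GL (Fin 2) F) (tv w (ε • formVec f₂ w)) ⋄ tens u x - tens u x = _
  rw [D.side2_tens, utv_mulVec D.u2 hw, tens_add_right, tens_smul_right, add_sub_cancel_left]

theorem RW_apply [Finite F] {a c : V2} (p : Pair f₁ a c) {w : V3} (hw : f₂ w w = 0) (z : V) :
    RW ε f₂ w z = ε • tens (f₂ (phi f₁ c z) w • a + f₂ (phi f₁ a z) w • c) w := by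
  conv_lhs => rw [D.expand p z]
  rw [map_add, D.RW_tens hw, D.RW_tens hw, tens_add_left, tens_smul_left, tens_smul_left, smul_add, smul_smul,
    smul_smul]

theorem root_RW [Finite F] {w : V3} (hw : f₂ w w = 0) : Root σ B M (RW ε f₂ w) := by
  obtain ⟨a, c, p⟩ := D.exists_pair'
  refine ⟨fun z => ?_, fun z z' => ?_, fun s hs => ?_⟩
  · rw [D.RW_apply p hw z, map_smul, D.RW_tens hw, hw, mul_zero, zero_smul, smul_zero]
  · rw [D.RW_apply p hw z, D.RW_apply p hw z', D.uB.smul_left, smul_right D.uB, D.hσε, D.B_phi', D.B_phi,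
      D.expand p z, D.expand p z']
    simp only [D.phi_add, D.phi_tens, p.aa, p.cc, p.ac, p.ca, D.u1.add_left, add_right D.u1, D.u1.smul_left,
      smul_right D.u1, add_right D.u2, D.u2.add_left, smul_right D.u2, D.u2.smul_left, zero_smul, one_smul,
      zero_add, add_zero, mul_one, mul_zero]
    rw [D.u2.herm w, D.u2.herm w]
    simp only [D.sigma_sigma]
    ring
  · refine ⟨_, D.side2_tv hw (γ := s * ε) (by rw [map_mul, hs, D.hσε]; ring), fun z => ?_⟩
    conv_lhs => rw [D.expand p z]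
    conv_rhs => arg 1; rw [D.expand p z]
    rw [D.RW_apply p hw, Matrix.mulVec_add, D.side2_tens, D.side2_tens, utv_mulVec D.u2 hw, utv_mulVec D.u2 hw]
    simp only [tens_add_left, tens_add_right, tens_smul_left, tens_smul_right]
    module

/-! ### The radical of a block stabiliser -/

theorem inR_add [Finite F] {a c : V2} (p : Pair f₁ a c) {A A' : V3 →ₗ[F] V3} (h : InR M f₁ a A)
    (h' : InR M f₁ a A') : InR M f₁ a (A + A') := by
  obtain ⟨g, hg, hgz⟩ := h
  obtain ⟨g', hg', hgz'⟩ := h'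
  refine ⟨g * g', M.mul_mem hg hg', fun z => ?_⟩
  rw [gl_mul_mulVec, hgz', hgz, D.phi_add, D.phi_a_a p, add_zero, LinearMap.add_apply, tens_add_right]
  abel

theorem inR_neg [Finite F] {a c : V2} (p : Pair f₁ a c) {A : V3 →ₗ[F] V3} (h : InR M f₁ a A) :
    InR M f₁ a (-A) := by
  obtain ⟨g, hg, hgz⟩ := h
  refine ⟨g⁻¹, M.inv_mem hg, fun z => gl_mulVec_injective g ?_⟩
  show g ⋄ (g⁻¹ ⋄ z) = g ⋄ (z + _)
  rw [gl_mulVec_inv, hgz, D.phi_add, D.phi_a_a p, add_zero, LinearMap.neg_apply,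
    show tens a (-A (phi f₁ a z)) = -tens a (A (phi f₁ a z)) from map_neg (tensL a) _]
  abel

theorem inR_sub [Finite F] {a c : V2} (p : Pair f₁ a c) {A A' : V3 →ₗ[F] V3} (h : InR M f₁ a A)
    (h' : InR M f₁ a A') : InR M f₁ a (A - A') := by
  rw [sub_eq_add_neg]
  exact D.inR_add p h (D.inR_neg p h')

theorem inR_skew [Finite F] {a c : V2} (p : Pair f₁ a c) {A : V3 →ₗ[F] V3} (h : InR M f₁ a A) (u v : V3) :
    f₂ (A u) v + f₂ u (A v) = 0 := by
  obtain ⟨g, hg, hgz⟩ := h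
  have e := D.iso g hg (tens c u) (tens c v)
  rw [hgz, hgz, D.phi_a_c p, D.phi_a_c p, D.uB.add_left, add_right D.uB, add_right D.uB, D.B_tens, D.B_tens,
    D.B_tens, D.B_tens, p.cc, p.ca, p.ac, p.aa] at e
  linear_combination e

/-- An element of `M` mapping a block into itself. -/
theorem stab_block [Finite F] (hAS : AllScalar M f₁) {a c : V2} (p : Pair f₁ a c)
    {d : GL (Fin 2 × Fin 3) F} (hd : d ∈ M) (h : ∀ u, phi f₁ a (d ⋄ tens a u) = 0) :
    d ∈ Cfsg.Geo.kroneckerSubgroup 2 3 F ∧ ∃ (A : GL (Fin 3) F) (μ r : F), σ μ = μ ∧ μ ≠ 0 ∧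
      (∀ u v, f₂ (A ⋄ u) (A ⋄ v) = μ * f₂ u v) ∧ (∀ u, d ⋄ tens a u = tens a (A ⋄ u)) ∧
      ∀ u, d ⋄ tens c u = μ⁻¹ • tens c (A ⋄ u) + r • tens a (A ⋄ u) := by
  let A₀ : V3 →ₗ[F] V3 := D.phiL c ∘ₗ gLin d ∘ₗ tensL a
  have hA₀ : ∀ u, d ⋄ tens a u = tens a (A₀ u) := fun u => D.mem_block p (h u)
  have hinj : ∀ u, A₀ u = 0 → u = 0 := fun u hu => by
    have e := hA₀ u
    rw [hu, tens_zero_right] at e
    have e' : tens a u = 0 := gl_mulVec_injective d (e.trans (Matrix.mulVec_zero _).symm)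
    rw [← D.phi_c_a p u, e', D.phi_zero]
  obtain ⟨A, hA⟩ := exists_gl A₀ hinj
  have hdA : ∀ u, d ⋄ tens a u = tens a (A ⋄ u) := fun u => by rw [hA, hA₀]
  have hd' : ∀ u, d⁻¹ ⋄ tens a u = tens a (A⁻¹ ⋄ u) := fun u => by
    conv_lhs => rw [← gl_mulVec_inv A u, ← hdA, gl_inv_mulVec]
  let Ad : V3 →ₗ[F] V3 := D.phiL a ∘ₗ gLin d⁻¹ ∘ₗ tensL c
  have hAd : ∀ x, Ad x = phi f₁ a (d⁻¹ ⋄ tens c x) := fun x => rfl
  have hphi : ∀ z, phi f₁ a (d⁻¹ ⋄ z) = Ad (phi f₁ a z) := fun z => by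
    conv_lhs => rw [D.expand p z]
    rw [Matrix.mulVec_add, D.phi_add, hd', D.phi_a_a p, zero_add, hAd]
  have hR : InR M f₁ a (ε • A₀ ∘ₗ Ad) := by
    obtain ⟨g, hg, hgz⟩ := (D.root_conj (D.root_PT p) hd).mem 1 (map_one σ)
    refine ⟨g, hg, fun z => ?_⟩
    rw [hgz, one_smul, conjP_apply, D.PT_apply, Matrix.mulVec_smul, hA₀, hphi]
    simp only [LinearMap.smul_apply, LinearMap.comp_apply, tens_smul_right]
  obtain ⟨ρ', hρ'⟩ := hAS a (D.pair_ne p) p.aa _ hR
  set ρ := ρ' / ε with hρdef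
  have hρ : ∀ x, A ⋄ Ad x = ρ • x := fun x => by
    have e := hρ' x
    simp only [LinearMap.smul_apply, LinearMap.comp_apply] at e
    rw [hA, ← inv_smul_smul₀ D.he0 (A₀ (Ad x)), e, smul_smul, hρdef, div_eq_inv_mul]
  have hρ0 : ρ ≠ 0 := fun e0 => by
    obtain ⟨w, hw, -, -⟩ := TensorFormMax.UnitSide.exists_iso_orth D.u2 (fun r hr => exists_norm D.u2 hr)
      (![] : Fin 0 → V3) (by norm_num)
    have e1 := hρ w
    rw [e0, zero_smul] at e1
    have e2 : Ad w = 0 := gl_mulVec_injective A (e1.trans (Matrix.mulVec_zero _).symm)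
    have e3 : tens c w = tens a (A ⋄ phi f₁ c (d⁻¹ ⋄ tens c w)) := by
      rw [← hdA, ← D.mem_block p (show phi f₁ a (d⁻¹ ⋄ tens c w) = 0 from e2), gl_mulVec_inv]
    have e4 := congrArg (phi f₁ a) e3
    rw [D.phi_a_c p, D.phi_a_a p] at e4
    exact hw e4
  have hμ : ∀ u v, f₂ (A ⋄ u) (A ⋄ v) = σ ρ * f₂ u v := fun u v => by
    have e := D.iso_left hd (tens a u) (tens c (A ⋄ v))
    rw [hdA, D.B_tens, p.ac, one_mul, D.B_phi', ← hAd] at e
    have e2 : Ad (A ⋄ v) = ρ • v := gl_mulVec_injective A (by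
      show A ⋄ Ad (A ⋄ v) = A ⋄ (ρ • v)
      rw [hρ, Matrix.mulVec_smul])
    rw [e, e2, smul_right D.u2]
  have hρσ : σ ρ = ρ := by
    obtain ⟨e, he, hee⟩ := TensorFormMax.UnitSide.exists_aniso_of_lt D.u2 (![] : Fin 0 → V3) (by norm_num)
    have e1 := congrArg σ (hμ e e)
    rw [map_mul, self_fixed D.u2, self_fixed D.u2, hμ, D.sigma_sigma] at e1
    exact mul_right_cancel₀ hee e1
  let β₀ : V2 →ₗ[F] V2 :=
    { toFun := fun u => f₁ u c • a + (ρ⁻¹ * f₁ u a) • c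
      map_add' := fun u v => by rw [D.u1.add_left, D.u1.add_left]; module
      map_smul' := fun t u => by rw [D.u1.smul_left, D.u1.smul_left, RingHom.id_apply]; module }
  have hβ₀ : ∀ u, f₁ (β₀ u) c = f₁ u c ∧ f₁ (β₀ u) a = ρ⁻¹ * f₁ u a := fun u => by
    show f₁ (f₁ u c • a + (ρ⁻¹ * f₁ u a) • c) c = _ ∧ f₁ (f₁ u c • a + (ρ⁻¹ * f₁ u a) • c) a = _
    simp only [D.u1.add_left, D.u1.smul_left, p.aa, p.cc, p.ac, p.ca]
    exact ⟨by ring, by ring⟩
  obtain ⟨β, hβ⟩ := exists_gl β₀ fun u hu => by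
    have e := hβ₀ u
    rw [hu, herm_zero_left D.u1, herm_zero_left D.u1] at e
    rw [D.split1 p u, ← e.1, (mul_eq_zero.1 e.2.symm).resolve_left (inv_ne_zero hρ0), zero_smul, zero_smul,
      add_zero]
  have hβiso : ∀ u v, f₁ (β ⋄ u) (β ⋄ v) = ρ⁻¹ * f₁ u v := fun u v => by
    rw [D.form1_expand p (β ⋄ u) (β ⋄ v), D.form1_expand p u v, hβ, hβ, (hβ₀ u).1, (hβ₀ u).2, (hβ₀ v).1,
      (hβ₀ v).2, map_mul, map_inv₀, hρσ]
    ring
  set k := kronGL β A with hk
  have hβa : β ⋄ a = a := by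
    rw [hβ, D.split1 p (β₀ a), (hβ₀ a).1, (hβ₀ a).2, p.aa, p.ac, mul_zero, zero_smul, add_zero, one_smul]
  have hβc : β ⋄ c = ρ⁻¹ • c := by
    rw [hβ, D.split1 p (β₀ c), (hβ₀ c).1, (hβ₀ c).2, p.cc, p.ca, mul_one, zero_smul, zero_add]
  have hkiso : ∀ x y, B (k ⋄ x) (k ⋄ y) = B x y := fun x y => by
    rw [D.expand p x, D.expand p y]
    simp only [hk, Matrix.mulVec_add, kronGL_mulVec, D.uB.add_left, add_right D.uB, D.B_tens, hβiso, hμ, hρσ]
    field_simp
  set u := k⁻¹ * d with hu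
  have hua : ∀ x, u ⋄ tens a x = tens a x := fun x => by
    rw [hu, gl_mul_mulVec, hdA, show tens a (A ⋄ x) = k ⋄ tens a x by rw [hk, kronGL_mulVec, hβa],
      gl_inv_mulVec]
  have huiso : ∀ x y, B (u ⋄ x) (u ⋄ y) = B x y := fun x y => by
    rw [hu, gl_mul_mulVec, gl_mul_mulVec, ← hkiso, gl_mulVec_inv, gl_mulVec_inv, D.iso d hd]
  have huphi : ∀ z, phi f₁ a (u ⋄ z) = phi f₁ a z := fun z => by
    refine sub_eq_zero.1 (D.eq_zero2 fun v => ?_)
    rw [sub_right D.u2, ← D.B_phi', ← D.B_phi']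
    conv_lhs => arg 1; rw [← hua v]
    rw [huiso, sub_self]
  let R : V3 →ₗ[F] V3 := D.phiL c ∘ₗ gLin u ∘ₗ tensL c
  have huz : ∀ z, u ⋄ z = z + tens a (R (phi f₁ a z)) := fun z => by
    refine D.eq_of_phi p ?_ ?_
    · rw [huphi, D.phi_add, D.phi_a_a p, add_zero]
    · rw [D.phi_add, D.phi_c_a p]
      show phi f₁ c (u ⋄ z) = phi f₁ c z + phi f₁ c (u ⋄ tens c (phi f₁ a z))
      conv_lhs => rw [D.expand p z]
      rw [Matrix.mulVec_add, hua, D.phi_add, D.phi_c_a p]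
  have hdetu : (Units.val u).det = 1 := by
    have hNz : ∀ z, (Units.val u - 1) *ᵥ z = tens a (R (phi f₁ a z)) := fun z => by
      rw [Matrix.sub_mulVec, Matrix.one_mulVec, huz, add_sub_cancel_left]
    have hN : (Units.val u - 1) * (Units.val u - 1) = 0 := Matrix.mulVec_injective (funext fun z => by
      rw [← Matrix.mulVec_mulVec, hNz, hNz, D.phi_a_a p, map_zero, tens_zero_right, Matrix.zero_mulVec])
    rw [← det_of_sq hN, add_sub_cancel]
  have hkM : k ∈ M := by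
    have hdd : (Units.val d).det = 1 → (Units.val k).det = 1 := fun e => by
      rw [show d = k * u by rw [hu, mul_inv_cancel_left], Units.val_mul, det_mul, hdetu, mul_one] at e
      exact e
    exact D.stab k (kronGL_mem β A) (hdd (D.det1 d hd)) hkiso
  have huM : u ∈ M := M.mul_mem (M.inv_mem hkM) hd
  obtain ⟨r, hr⟩ := hAS a (D.pair_ne p) p.aa R ⟨u, huM, huz⟩
  have huk : u = kronGL (tv a (r • formVec f₁ a)) (1 : GL (Fin 3) F) := gl_ext fun z => by
    rw [huz, hr, D.side1_tv_apply p, tens_smul_right]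
  refine ⟨?_, A, ρ, r, hρσ, hρ0, fun u v => by rw [hμ, hρσ], hdA, fun x => ?_⟩
  · rw [show d = k * u by rw [hu, mul_inv_cancel_left]]
    exact Subgroup.mul_mem _ (kronGL_mem β A) (huk ▸ kronGL_mem _ _)
  · have e : d ⋄ tens c x = k ⋄ (u ⋄ tens c x) := by rw [← gl_mul_mulVec, hu, mul_inv_cancel_left]
    rw [e, huz, D.phi_a_c p, hr, tens_smul_right, Matrix.mulVec_add, Matrix.mulVec_smul, hk, kronGL_mulVec,
      kronGL_mulVec, hβa, hβc, tens_smul_left]

end Data

end Cfsg.Agent.Lib.UnitTwoThree
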