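import Cfsg.Agent.Lib.UnitTwoThree.Basic
import Cfsg.Agent.Lib.SubfieldMax.SymForm.Space

/-!
A radical element that is not a scalar produces every isotropic centre.
Owner: helper95.
-/

set_option autoImplicit false
set_option linter.unusedSectionVars false

namespace Cfsg.Agent.Lib.UnitTwoThree

open Matrix Kronecker
open Cfsg.Agent.Lib.Subspaces.Transvection Cfsg.Agent.Lib.Subspaces.FormVec
  Cfsg.Agent.Lib.Subspaces.UnitaryForm Cfsg.Agent.Lib.Subspaces.UnitaryGen
  Cfsg.Agent.Lib.TensorMax.Block Cfsg.Agent.Lib.TensorMax.Lemmas Cfsg.Agent.Lib.TensorFormMax.Basic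
  Cfsg.Agent.Lib.SubfieldMax.SymForm

variable {F : Type*} [Field F]

local notation "V2" => Fin 2 → F
local notation "V3" => Fin 3 → F
local notation "V" => Fin 2 × Fin 3 → F
local notation:80 g:81 " ⋄ " z:80 => Matrix.mulVec (Units.val g) z

namespace Data

variable {σ : F ≃+* F} {ε : F} {f₁ : (Fin 2 → F) → (Fin 2 → F) → F}
  {f₂ : (Fin 3 → F) → (Fin 3 → F) → F} {B : (Fin 2 × Fin 3 → F) → (Fin 2 × Fin 3 → F) → F}
  {M : Subgroup (GL (Fin 2 × Fin 3) F)} (D : Data σ ε f₁ f₂ B M) [Finite F]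
include D

theorem inR_conj2 {a : V2} {A : V3 →ₗ[F] V3} (h : InR M f₁ a A) {N : GL (Fin 3) F}
    (hN : kronGL (1 : GL (Fin 2) F) N ∈ M) :
    InR M f₁ a (Matrix.mulVecLin (Units.val N) ∘ₗ A ∘ₗ Matrix.mulVecLin (Units.val N⁻¹)) := by
  obtain ⟨g, hg, hgz⟩ := h
  refine ⟨_ * g * _⁻¹, M.mul_mem (M.mul_mem hN hg) (M.inv_mem hN), fun z => ?_⟩
  have hphi : phi f₁ a ((kronGL (1 : GL (Fin 2) F) N)⁻¹ ⋄ z) = N⁻¹ ⋄ phi f₁ a z := by
    conv_rhs => rw [← gl_mulVec_inv (kronGL (1 : GL (Fin 2) F) N) z, D.phi_side2, gl_inv_mulVec]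
  rw [gl_mul_mulVec, gl_mul_mulVec, hgz, Matrix.mulVec_add, gl_mulVec_inv, D.side2_tens, hphi]
  rfl

theorem inR_diff {a c : V2} (p : Pair f₁ a c) {A : V3 →ₗ[F] V3} (h : InR M f₁ a A) {N : GL (Fin 3) F}
    (hN : kronGL (1 : GL (Fin 2) F) N ∈ M) :
    ∃ A' : V3 →ₗ[F] V3, InR M f₁ a A' ∧ ∀ x, A' (N ⋄ x) = N ⋄ A x - A (N ⋄ x) :=
  ⟨_, D.inR_sub p (D.inR_conj2 h hN) h, fun x => by
    simp only [LinearMap.sub_apply, LinearMap.comp_apply, Matrix.mulVecLin_apply, gl_inv_mulVec]⟩

theorem exists_heis {w e w' : V3} (H : Hyp f₂ w e w') (β : F) :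
    ∃ (N : GL (Fin 3) F) (t : F), kronGL (1 : GL (Fin 2) F) N ∈ M ∧ N ⋄ w = w ∧
      N ⋄ e = e + (-(σ β * f₂ e e)) • w ∧ N ⋄ w' = w' + β • e + t • w := by
  obtain ⟨c, hc⟩ := exists_trace D.u2 (r := -f₂ (β • e) (β • e)) (by rw [map_neg, self_fixed D.u2])
  have hxw : f₂ (β • e) w = 0 := by rw [D.u2.smul_left, H.ew, mul_zero]
  have hs := sgen_isS D.u2 H.ww hxw c
  refine ⟨sgen f₂ w (β • e) c, c, D.mem_side2 (fun x y => sgen_isometry D.u2 H.ww hxw hc x y)
    ((mem_specialLinear_iff _).1 (sgen_mem_specialLinear _ _ _ _)), ?_, ?_, ?_⟩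
  · rw [hs w]
    simp [H.ww, smul_right D.u2, H.we]
  · rw [hs e]
    simp [smul_right D.u2, H.ew]
    module
  · rw [hs w']
    simp [smul_right D.u2, H.dw, H.de]

theorem exists_not_line {a c : V2} (p : Pair f₁ a c) {A : V3 →ₗ[F] V3} (h : InR M f₁ a A)
    (hA : ∀ r : F, ∃ x, A x ≠ r • x) : ∃ w, w ≠ 0 ∧ f₂ w w = 0 ∧ A w ∉ Submodule.span F {w} := by
  by_contra hc
  push Not at hc
  obtain ⟨w, hw, hww, -⟩ := TensorFormMax.UnitSide.exists_iso_orth D.u2 (fun r hr => exists_norm D.u2 hr)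
    (![] : Fin 0 → V3) (by norm_num)
  obtain ⟨e, w', H⟩ := D.exists_hyp hw hww
  obtain ⟨l, hl⟩ := Submodule.mem_span_singleton.1 (hc w hw hww)
  obtain ⟨l', hl'⟩ := Submodule.mem_span_singleton.1 (hc w' (D.hyp_ne' (D.hyp_swap H)) H.dd)
  have sk := D.inR_skew p h
  have he1 : f₂ (A e) w = 0 := by
    have := sk e w
    rwa [← hl, smul_right D.u2, H.ew, mul_zero, add_zero] at this
  have he2 : f₂ (A e) w' = 0 := by
    have := sk e w'
    rwa [← hl', smul_right D.u2, H.ed, mul_zero, add_zero] at this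
  obtain ⟨m, hm⟩ : ∃ m : F, A e = m • e := ⟨f₂ (A e) e / f₂ e e, by
    conv_lhs => rw [D.split2 H (A e), he1, he2, zero_smul, zero_smul, zero_add, add_zero]⟩
  obtain ⟨t, ht⟩ := exists_trace D.u2 (r := -f₂ e e) (by rw [map_neg, self_fixed D.u2])
  set x := w + e + t • w' with hx
  have hxx : f₂ x x = 0 := by
    simp only [hx, D.u2.add_left, add_right D.u2, D.u2.smul_left, smul_right D.u2, H.ww, H.we, H.wd, H.dw,
      H.dd, H.de, H.ew, H.ed]
    linear_combination ht
  have ht0 : t ≠ 0 := fun e0 => H.ee (by rw [e0, map_zero, add_zero, eq_comm, neg_eq_zero] at ht; exact ht)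
  have hx0 : x ≠ 0 := fun e0 => by
    have := congrArg (fun y => f₂ y w') e0
    simp [hx, D.u2.add_left, D.u2.smul_left, H.wd, H.ed, H.dd, herm_zero_left D.u2] at this
  obtain ⟨s, hs⟩ := Submodule.mem_span_singleton.1 (hc x hx0 hxx)
  rw [hx, map_add, map_add, map_smul, ← hl, ← hl', hm] at hs
  have q1 := congrArg (fun y => f₂ y w') hs
  have q2 := congrArg (fun y => f₂ y e) hs
  have q3 := congrArg (fun y => f₂ y w) hs
  simp only [D.u2.add_left, D.u2.smul_left, H.wd, H.ed, H.dd, H.we, H.de, H.ww, H.ew, H.dw, mul_one, mul_zero,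
    add_zero, zero_add] at q1 q2 q3
  have hml : m = l := by rw [← q1]; exact mul_right_cancel₀ H.ee q2.symm
  have hll : l' = l := by
    have : t * l' = t * l := by linear_combination -q3 + t * q1
    exact mul_left_cancel₀ ht0 this
  obtain ⟨y, hy⟩ := hA l
  exact hy (LinearMap.congr_fun (D.ext2 H (L := A) (L' := l • LinearMap.id) (by simp [hl])
    (by simp [hm, hml]) (by simp [← hl', hll])) y)

theorem exists_lower {a c : V2} (p : Pair f₁ a c) {A : V3 →ₗ[F] V3} (h : InR M f₁ a A)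
    (hA : ∀ r : F, ∃ x, A x ≠ r • x) :
    ∃ (w e w' : V3) (T : V3 →ₗ[F] V3) (b : F), Hyp f₂ w e w' ∧ InR M f₁ a T ∧ b ≠ 0 ∧ T w = 0 ∧
      T e = b • w := by
  obtain ⟨w, hw, hww, hAw⟩ := D.exists_not_line p h hA
  obtain ⟨e, w', H⟩ := D.exists_hyp hw hww
  obtain ⟨T, hT, hTx⟩ := D.inR_diff p h (N := tv w (ε • formVec f₂ w)) (D.side2_tv hww D.skew_ε)
  simp only [utv_mulVec D.u2 hww] at hTx
  have hTw : T w = (ε * f₂ (A w) w) • w := by
    have := hTx w
    simpa [hww] using this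
  have hTe : T e = (ε * f₂ (A e) w) • w := by
    have := hTx e
    simpa [H.ew] using this
  by_cases hm : f₂ (A w) w = 0
  · refine ⟨w, e, w', T, ε * f₂ (A e) w, H, hT, mul_ne_zero D.he0 fun h0 => hAw ?_,
      by rw [hTw, hm, mul_zero, zero_smul], hTe⟩
    have h1 : f₂ (A w) e = 0 := swap_eq_zero D.u2 (by
      have := D.inR_skew p h e w
      rwa [h0, zero_add] at this)
    rw [D.split2 H (A w), hm, h1, zero_div, zero_smul, zero_smul, add_zero, add_zero]
    exact Submodule.smul_mem _ _ (Submodule.mem_span_singleton_self w)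
  · obtain ⟨N, t, hN, hNw, hNe, -⟩ := D.exists_heis H 1
    obtain ⟨C, hC, hCx⟩ := D.inR_diff p hT hN
    have hCw : C w = 0 := by
      have := hCx w
      rwa [hNw, hTw, Matrix.mulVec_smul, hNw, sub_self] at this
    refine ⟨w, e, w', C, f₂ e e * (ε * f₂ (A w) w), H, hC, mul_ne_zero H.ee (mul_ne_zero D.he0 hm), hCw, ?_⟩
    have := hCx e
    rw [hNe, map_add, map_smul, hCw, smul_zero, add_zero, hTe, Matrix.mulVec_smul, hNw, map_add, map_smul,
      hTe, hTw, map_one, one_mul] at this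
    rw [this]
    module

theorem center_of_lower {a c : V2} (p : Pair f₁ a c) {w e w' : V3} (H : Hyp f₂ w e w') {T : V3 →ₗ[F] V3}
    {b : F} (hT : InR M f₁ a T) (hb : b ≠ 0) (hTw : T w = 0) (hTe : T e = b • w) :
    UnitCenter σ B M (tens a w) := by
  have hiso : B (tens a w) (tens a w) = 0 := by rw [D.B_tens, p.aa, zero_mul]
  refine ⟨hiso, fun k hk => ?_⟩
  obtain ⟨t₁, ht₁⟩ := exists_trace D.u1 (r := 1) (map_one σ)
  set x := -(k * t₁) with hx
  have hxk : σ x - x = k := by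
    rw [hx, map_neg, map_mul, eq_neg_of_add_eq_zero_right hk]
    linear_combination k * ht₁
  obtain ⟨N, t, hN, hNw, hNe, hNd⟩ := D.exists_heis H (x / b)
  obtain ⟨T', hT', hTx⟩ := D.inR_diff p hT hN
  have h1 : T' w = 0 := by
    have := hTx w
    rwa [hNw, hTw, Matrix.mulVec_zero, sub_zero] at this
  have h2 : T' e = 0 := by
    have := hTx e
    rwa [hNe, map_add, map_smul, h1, smul_zero, add_zero, hTe, Matrix.mulVec_smul, hNw, map_add, map_smul,
      hTw, smul_zero, add_zero, hTe, sub_self] at this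
  have h3 : T' w' = k • w := by
    have hd : T w' = f₂ (T w') w' • w + (-σ b / f₂ e e) • e := by
      have e1 : f₂ (T w') w = 0 := by
        have := D.inR_skew p hT w' w
        rwa [hTw, zero_right D.u2, add_zero] at this
      have e2 : f₂ (T w') e = -σ b := by
        have := D.inR_skew p hT w' e
        rw [hTe, smul_right D.u2, H.dw, mul_one] at this
        exact eq_neg_of_add_eq_zero_left this
      conv_lhs => rw [D.split2 H (T w'), e1, e2, zero_smul, add_zero]
    have := hTx w'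
    rw [hNd] at this
    simp only [map_add, map_smul, h1, h2, smul_zero, add_zero, hTw, hTe] at this
    rw [this, hd, Matrix.mulVec_add, Matrix.mulVec_smul, Matrix.mulVec_smul, hNw, hNe]
    match_scalars
    · have := H.ee
      field_simp
      rw [map_div₀]
      have hσb : σ b ≠ 0 := by simpa using hb
      field_simp
      linear_combination hxk
    · ring
  obtain ⟨g, hg, hgz⟩ := hT'
  convert hg using 1
  refine gl_ext fun z => ?_
  rw [utv_mulVec D.uB hiso, hgz, D.B_phi]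
  congr 1
  have hlin : ∀ y, T' y = (k * f₂ y w) • w := fun y => by
    rw [D.split2 H y]
    simp only [map_add, map_smul, h1, h2, h3, D.u2.add_left, D.u2.smul_left, H.ww, H.ew, H.dw, smul_smul,
      smul_zero, mul_zero, mul_one, add_zero, zero_add]
    rw [mul_comm]
  rw [hlin, tens_smul_right]

theorem center_iso_line {a : V2} {w : V3} (hw : w ≠ 0) (hww : f₂ w w = 0)
    (h : UnitCenter σ B M (tens a w)) {x : V3} (hxx : f₂ x x = 0) : UnitCenter σ B M (tens a x) := by
  have hmv : ∀ {y v : V3} {γ : F}, UnitCenter σ B M (tens a y) → f₂ v v = 0 → γ + σ γ = 0 →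
      UnitCenter σ B M (tens a (y + (γ * f₂ y v) • v)) := fun {y v γ} hy hv hγ => by
    have := unitCenter_conj D.uB hy (D.side2_tv hv hγ) (D.iso _ (D.side2_tv hv hγ))
    rwa [D.side2_tens, utv_mulVec D.u2 hv] at this
  by_cases hwx : f₂ w x = 0
  · obtain ⟨e, w', H⟩ := D.exists_hyp hw hww
    have e2 : x = f₂ x w' • w + (f₂ x e / f₂ e e) • e := by
      conv_lhs => rw [D.split2 H x, swap_eq_zero D.u2 hwx, zero_smul, add_zero]
    have e3 : f₂ x e = 0 := by
      rw [e2] at hxx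
      simp [D.u2.add_left, add_right D.u2, D.u2.smul_left, smul_right D.u2, H.ww, H.we, H.ew, H.ee] at hxx
      exact hxx
    rw [e2, e3, zero_div, zero_smul, add_zero, tens_smul_right]
    exact unitCenter_smul D.uB h _
  · have hxw : f₂ x w ≠ 0 := fun e => hwx (swap_eq_zero D.u2 e)
    have h1 := hmv h hxx D.skew_ε
    set y := w + (ε * f₂ w x) • x with hy
    set K := ε * f₂ w x * f₂ x w with hK
    have hyw : f₂ y w = K := by rw [hy, D.u2.add_left, D.u2.smul_left, hww, zero_add]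
    have hK0 : K ≠ 0 := mul_ne_zero (mul_ne_zero D.he0 hwx) hxw
    have hσK : σ K = -K := by
      rw [hK, map_mul, map_mul, D.hσε, ← D.u2.herm, ← D.u2.herm]; ring
    have h2 := hmv h1 hww (γ := -K⁻¹) (by rw [map_neg, map_inv₀, hσK, inv_neg]; ring)
    rw [hyw, neg_mul, inv_mul_cancel₀ hK0, neg_one_smul,
      show y + -w = (ε * f₂ w x) • x by rw [hy]; abel, tens_smul_right] at h2
    have h3 := unitCenter_smul D.uB h2 (ε * f₂ w x)⁻¹
    rwa [inv_smul_smul₀ (mul_ne_zero D.he0 hwx)] at h3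

/-- An element of `M` moving a block to another one. -/
theorem exists_move {a c : V2} (p : Pair f₁ a c) {u : V2} (hu : u ≠ 0) (huu : f₁ u u = 0) :
    ∃ h ∈ M, h ∈ Cfsg.Geo.kroneckerSubgroup 2 3 F ∧ ∃ t : F, t ≠ 0 ∧
      ∀ x : V3, h ⋄ tens a x = t • tens u x := by
  have hdec := D.split1 p u
  by_cases h0 : f₁ u a = 0
  · rw [h0, zero_smul, add_zero] at hdec
    have hd : f₁ u c ≠ 0 := fun e => hu (by rw [hdec, e, zero_smul])
    refine ⟨1, M.one_mem, Subgroup.one_mem _, (f₁ u c)⁻¹, inv_ne_zero hd, fun x => ?_⟩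
    have e : tens u x = f₁ u c • tens a x := by conv_lhs => rw [hdec, tens_smul_left]
    rw [Units.val_one, one_mulVec, e, inv_smul_smul₀ hd]
  · set α := f₁ u c
    set β := f₁ u a
    have hσβ : σ β ≠ 0 := by simpa using h0
    have hs : α * σ β + β * σ α = 0 := by
      rw [← D.form1_expand p u u]; exact huu
    set s := α / β - ε⁻¹ with hsdef
    have hs' : s + σ s = 0 := by
      rw [hsdef, map_sub, map_div₀, map_inv₀, D.hσε]
      have := D.he0
      field_simp
      linear_combination ε * hs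
    refine ⟨_ * _, M.mul_mem (D.side1_tv p.aa hs') (D.side1_tv p.cc D.skew_ε),
      Subgroup.mul_mem _ (kronGL_mem _ _) (kronGL_mem _ _), ε / β, div_ne_zero D.he0 h0, fun x => ?_⟩
    rw [gl_mul_mulVec, D.side1_tens, D.side1_tens, utv_mulVec D.u1 p.cc, p.ac, mul_one, utv_mulVec D.u1 p.aa,
      D.u1.add_left, D.u1.smul_left, p.aa, p.ca, zero_add, mul_one, ← tens_smul_left]
    congr 1
    rw [hdec, hsdef]
    have := D.he0
    match_scalars <;> field_simp <;> ring

theorem center_aniso (hall : ∀ u v, f₁ u u = 0 → f₂ v v = 0 → UnitCenter σ B M (tens u v)) {a : V2}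
    (haa : f₁ a a = 0) (x : V3) : UnitCenter σ B M (tens a x) := by
  by_cases hx : f₂ x x = 0
  · exact hall a x haa hx
  rcases eq_or_ne a 0 with rfl | ha
  · rw [tens_zero_left, ← tens_zero_left (m := 2) (0 : V3)]
    exact hall _ _ (herm_zero_left D.u1 _) (herm_zero_left D.u2 _)
  obtain ⟨c, p⟩ := D.exists_pair ha haa
  by_cases h2 : (2 : F) = 0
  · obtain ⟨w, w', H⟩ := D.exists_hyp_at hx
    have h11 : (1 : F) + 1 = 0 := by rw [one_add_one_eq_two]; exact h2
    have hws : f₂ (w + w') (w + w') = 0 := by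
      rw [D.u2.add_left, add_right D.u2, add_right D.u2, H.ww, H.dd, H.wd, H.dw]
      linear_combination h11
    refine ⟨by rw [D.B_tens, p.aa, zero_mul], fun α hα => ?_⟩
    have hσα : σ α = α := by linear_combination hα - α * h11
    have hσε : σ ε = ε := by linear_combination D.skew_ε - ε * h11
    set r := α * f₂ x x / ε with hr
    have hσr : σ r = r := by rw [hr, map_div₀, map_mul, hσα, self_fixed D.u2, hσε]
    obtain ⟨g, hg, hgz⟩ := (D.root_PT p).mem r hσr
    set k := α * f₂ x x with hk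
    have hkk : k + σ k = 0 := by rw [hk, map_mul, self_fixed D.u2, hσα]; linear_combination k * h11
    have hm := M.mul_mem (M.mul_mem (M.mul_mem hg ((hall a w haa H.ww).2 k hkk))
      ((hall a w' haa H.dd).2 k hkk)) ((hall a (w + w') haa hws).2 k hkk)
    convert hm using 1
    refine gl_ext fun z => ?_
    have hB : ∀ y, B (tens a y) (tens a y) = 0 := fun y => by rw [D.B_tens, p.aa, zero_mul]
    rw [utv_mulVec D.uB (hB x), gl_mul_mulVec, gl_mul_mulVec, gl_mul_mulVec, utv_mulVec D.uB (hB (w + w')),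
      utv_mulVec D.uB (hB w'), utv_mulVec D.uB (hB w), hgz, D.PT_apply]
    simp only [D.B_phi, D.phi_add, D.phi_smul, D.phi_a_a p, smul_zero, add_zero, add_right D.u2, add_right D.uB,
      tens_add_right]
    set φ := phi f₁ a z
    have hre : r * ε = k := by rw [hr, hk, div_mul_cancel₀ _ D.he0]
    conv_rhs => arg 2; rw [smul_smul, hre, D.split2 H φ]
    simp only [tens_add_right, tens_smul_right, hk]
    match_scalars
    · ring
    · field_simp
    · linear_combination -(α * f₂ x x * f₂ φ w) * h2 - (α * f₂ x x * f₂ φ w') * h2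
    · linear_combination -(α * f₂ x x * f₂ φ w) * h2 - (α * f₂ x x * f₂ φ w') * h2
  · obtain ⟨w, hw, hwx⟩ : ∃ w, f₂ w w = 0 ∧ f₂ w x = 1 :=
      exists_isotropic_one D.u2 (by rw [Fintype.card_fin]; norm_num)
        (fun e => hx (by rw [e, herm_zero_left D.u2]))
    have hxw : f₂ x w = 1 := by rw [D.u2.herm, hwx, map_one]
    set h := f₂ x x / 2 with hh
    have hσh : σ h = h := by rw [hh, map_div₀, self_fixed D.u2, map_ofNat]
    have h0 : h ≠ 0 := div_ne_zero hx h2
    set w1 := h • w with hw1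
    set w2 := x - h • w with hw2
    have h11 : f₂ w1 w1 = 0 := by rw [hw1, D.u2.smul_left, smul_right D.u2, hw, mul_zero, mul_zero]
    have h12 : f₂ w1 w2 = h := by
      rw [hw1, hw2, D.u2.smul_left, sub_right D.u2, smul_right D.u2, hw, hwx]; ring
    have h22 : f₂ w2 w2 = 0 := by
      simp only [hw2, form_sub_left (isLinearLeft_of_unitary D.u2), sub_right D.u2, D.u2.smul_left,
        smul_right D.u2, hw, hwx, hxw, hσh]
      rw [hh]
      field_simp
      ring
    have hσεh : ε / h + σ (ε / h) = 0 := by rw [map_div₀, D.hσε, hσh]; ring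
    have z1 := unitCenter_move D.uB (hall c w2 p.cc h22) (hall a w1 p.aa h11) hσεh
    rw [D.B_tens, p.ac, one_mul, h12, div_mul_cancel₀ _ h0] at z1
    set u' := c + (-ε⁻¹) • a with hu'
    have hu'' : f₁ u' u' = 0 := by
      rw [hu', expand_add_smul D.u1, p.cc, p.ac, p.aa, map_mul, map_neg, map_inv₀, D.hσε, map_one, inv_neg]
      ring
    have z2 := unitCenter_move D.uB (hall u' w2 hu'' h22) z1 (a := -(ε / h)) (by
      rw [map_neg]; linear_combination -hσεh)
    rw [D.uB.add_left, D.uB.smul_left, D.B_tens, D.B_tens, h12, h22, hu', add_right D.u1, smul_right D.u1,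
      p.ac, p.aa, mul_zero, add_zero, one_mul, mul_zero, mul_zero, add_zero, neg_mul, div_mul_cancel₀ _ h0]
      at z2
    convert z2 using 1
    rw [show x = w1 + w2 by rw [hw1, hw2]; abel, tens_add_right, tens_add_left, tens_smul_left, smul_add,
      smul_smul, neg_mul_neg, mul_inv_cancel₀ D.he0, one_smul]
    module

theorem centers_all {a₀ c₀ : V2} (p₀ : Pair f₁ a₀ c₀) {A : V3 →ₗ[F] V3} (h : InR M f₁ a₀ A)
    (hA : ∀ r : F, ∃ x, A x ≠ r • x) (z : V) (hz : B z z = 0) : UnitCenter σ B M z := by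
  obtain ⟨w, e, w', T, b, H, hT, hb, hTw, hTe⟩ := D.exists_lower p₀ h hA
  have h0 := D.center_of_lower p₀ H hT hb hTw hTe
  have hline : ∀ v, f₂ v v = 0 → UnitCenter σ B M (tens a₀ v) := fun v hv =>
    D.center_iso_line (D.hyp_ne' H) H.ww h0 hv
  have hall : ∀ u v, f₁ u u = 0 → f₂ v v = 0 → UnitCenter σ B M (tens u v) := by
    intro u v hu hv
    rcases eq_or_ne u 0 with rfl | hu0
    · rw [show tens (0 : V2) v = (0 : F) • tens a₀ v by rw [tens_zero_left, zero_smul]]
      exact unitCenter_smul D.uB (hline v hv) 0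
    obtain ⟨g, hg, -, t, ht, hgt⟩ := D.exists_move p₀ hu0 hu
    have := unitCenter_smul D.uB (unitCenter_conj D.uB (hline v hv) hg (D.iso g hg)) t⁻¹
    rwa [hgt, inv_smul_smul₀ ht] at this
  have hA : ∀ x, UnitCenter σ B M (tens a₀ x) := fun x => D.center_aniso hall p₀.aa x
  have hC : ∀ x, UnitCenter σ B M (tens c₀ x) := fun x => D.center_aniso hall p₀.cc x
  have hadd : ∀ v, UnitCenter σ B M v → ∀ x, B v (tens c₀ x) ≠ 0 →
      B v (tens c₀ x) + σ (B v (tens c₀ x)) = 0 → UnitCenter σ B M (v + tens c₀ x) := by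
    intro v hv x hne htr
    have := unitCenter_move D.uB (hC x) hv (a := (B v (tens c₀ x))⁻¹)
      (by rw [map_inv₀, eq_neg_of_add_eq_zero_right htr, inv_neg, add_neg_cancel])
    rwa [inv_mul_cancel₀ hne, one_smul] at this
  set p := phi f₁ c₀ z
  set q := phi f₁ a₀ z
  rw [D.expand p₀ z] at hz ⊢
  rcases eq_or_ne p 0 with hp0 | hp0
  · rw [show phi f₁ c₀ z = p from rfl, hp0, tens_zero_right, zero_add]; exact hC q
  have hpq : B (tens a₀ p) (tens c₀ q) = f₂ p q := by rw [D.B_tens, p₀.ac, one_mul]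
  have htr : f₂ p q + σ (f₂ p q) = 0 := by
    rw [D.uB.add_left, add_right D.uB, add_right D.uB, D.B_tens, D.B_tens, D.B_tens, D.B_tens, p₀.aa, p₀.cc,
      p₀.ac, p₀.ca, D.u2.herm q p] at hz
    linear_combination hz
  by_cases h0 : f₂ p q = 0
  · obtain ⟨y, hy⟩ := (D.u2.nondegenerate p hp0).1
    have hy' : f₂ p y ≠ 0 := fun e' => hy (swap_eq_zero D.u2 e')
    set y' := σ (ε / f₂ p y) • y with hy'd
    have hpy : f₂ p y' = ε := by rw [hy'd, smul_right D.u2, D.sigma_sigma, div_mul_cancel₀ _ hy']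
    have hval1 : B (tens a₀ p) (tens c₀ y') = ε := by rw [D.B_tens, p₀.ac, one_mul, hpy]
    have h1 := hadd _ (hA p) y' (by rw [hval1]; exact D.he0) (by rw [hval1]; exact D.skew_ε)
    have hval : B (tens a₀ p + tens c₀ y') (tens c₀ (q - y')) = -ε := by
      rw [D.uB.add_left, D.B_tens, D.B_tens, p₀.ac, p₀.cc, zero_mul, add_zero, one_mul, sub_right D.u2, h0,
        hpy, zero_sub]
    have h2 := hadd _ h1 (q - y') (by rw [hval]; exact neg_ne_zero.2 D.he0)
      (by rw [hval, map_neg]; linear_combination -D.skew_ε)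
    rwa [add_assoc, ← tens_add_right, add_sub_cancel] at h2
  · exact hadd _ (hA p) q (by rw [hpq]; exact h0) (by rw [hpq]; exact htr)

end Data

end Cfsg.Agent.Lib.UnitTwoThree
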