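import Cfsg.Agent.Lib.UnitTwoThree.Centre

/-!
A root killing an isotropic pure tensor of a block, with small intersection with that block.
Owner: helper95.
-/

set_option autoImplicit false
set_option linter.unusedSectionVars false

namespace Cfsg.Agent.Lib.UnitTwoThree

open Matrix Kronecker
open Cfsg.Agent.Lib.Subspaces.Transvection Cfsg.Agent.Lib.Subspaces.FormVec
  Cfsg.Agent.Lib.Subspaces.UnitaryForm
  Cfsg.Agent.Lib.TensorMax.Block Cfsg.Agent.Lib.TensorMax.Lemmas Cfsg.Agent.Lib.TensorFormMax.Basic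

variable {F : Type*} [Field F]

local notation "V2" => Fin 2 → F
local notation "V3" => Fin 3 → F
local notation "V" => Fin 2 × Fin 3 → F
local notation:80 g:81 " ⋄ " z:80 => Matrix.mulVec (Units.val g) z

namespace Data

variable {σ : F ≃+* F} {ε : F} {f₁ : (Fin 2 → F) → (Fin 2 → F) → F}
  {f₂ : (Fin 3 → F) → (Fin 3 → F) → F} {B : (Fin 2 × Fin 3 → F) → (Fin 2 × Fin 3 → F) → F}
  {M : Subgroup (GL (Fin 2 × Fin 3) F)} (D : Data σ ε f₁ f₂ B M) [Finite F]
include D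

theorem elem_inv {P : V →ₗ[F] V} (hP : Root σ B M P) {g : GL (Fin 2 × Fin 3) F} {s : F}
    (hg : ∀ z, g ⋄ z = z + s • P z) (z : V) : g⁻¹ ⋄ z = z + (-s) • P z := by
  have _ := D
  refine gl_mulVec_injective g ?_
  show g ⋄ (g⁻¹ ⋄ z) = g ⋄ _
  rw [gl_mulVec_inv, hg, map_add, map_smul, hP.sq, smul_zero, add_zero, neg_smul, neg_add_cancel_right]

theorem root_skew' {P : V →ₗ[F] V} (hP : Root σ B M P) (z z' : V) : B z (P z') = -B (P z) z' := by
  have _ := D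
  linear_combination hP.skew z z'

/-- On the perpendicular of `a ⊗ w`, modulo that vector, the root of the first factor is a transvection. -/
theorem PT_near {a c : V2} (_p : Pair f₁ a c) {w e w' : V3} (H : Hyp f₂ w e w') {z : V}
    (hz : B z (tens a w) = 0) :
    ∃ t : F, D.PT a z = (ε / f₂ e e * B z (tens a e)) • tens a e + t • tens a w := by
  refine ⟨ε * f₂ (phi f₁ a z) w', ?_⟩
  rw [D.B_phi] at hz ⊢
  rw [D.PT_apply]
  conv_lhs => rw [D.split2 H (phi f₁ a z), hz, zero_smul, add_zero, tens_add_right, tens_smul_right,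
    tens_smul_right, smul_add, smul_smul, smul_smul, add_comm]
  rw [mul_div_assoc', div_mul_eq_mul_div]

/-- The last commutator. -/
theorem iso_finish (hAS : AllScalar M f₁) {a c : V2} (p : Pair f₁ a c) {w e w' : V3} (H : Hyp f₂ w e w')
    {g : GL (Fin 2 × Fin 3) F} (hg : g ∈ M) (hgw : g ⋄ tens a w = tens a w) {q : V} {ν ν' : F}
    (hν : ν ≠ 0) (hν' : ν' ≠ 0) (hq : phi f₁ a q = ν' • w) (hqq : B q q = 0)
    (hnear : ∀ z, B z (tens a w) = 0 → ∃ t : F, g ⋄ z = z + (ν * B z q) • q + t • tens a w) : False := by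
  set κ := ε / f₂ e e with hκ
  set aw := tens a w with haw
  set ae := tens a e with hae
  set z₀ := tens c w' with hz₀
  have hW : ∀ x y : V3, B (tens a x) (tens a y) = 0 := fun x y => by rw [D.B_tens, p.aa, zero_mul]
  have hqw : B q aw = 0 := by rw [haw, D.B_phi, hq, D.u2.smul_left, H.ww, mul_zero]
  have hwq : B aw q = 0 := swap_eq_zero D.uB hqw
  have hqe : B q ae = 0 := by rw [hae, D.B_phi, hq, D.u2.smul_left, H.we, mul_zero]
  have heq : B ae q = 0 := swap_eq_zero D.uB hqe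
  have hwe : B aw ae = 0 := hW _ _
  have hew : B ae aw = 0 := hW _ _
  have hww : B aw aw = 0 := hW _ _
  have hee : B ae ae = 0 := hW _ _
  have hgi : g⁻¹ ⋄ aw = aw := by
    conv_lhs => rw [← hgw, gl_inv_mulVec]
  have hinv : ∀ z, B z aw = 0 → ∃ t : F, g⁻¹ ⋄ z = z + (-(ν * B z q)) • q + t • aw := by
    intro z hz
    obtain ⟨t, ht⟩ := hnear (z + (-(ν * B z q)) • q) (by
      rw [D.uB.add_left, D.uB.smul_left, hz, hqw, mul_zero, add_zero])
    refine ⟨-t, gl_mulVec_injective g ?_⟩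
    show g ⋄ (g⁻¹ ⋄ z) = g ⋄ (z + (-(ν * B z q)) • q + (-t) • aw)
    rw [gl_mulVec_inv, Matrix.mulVec_add, ht, Matrix.mulVec_smul, hgw, D.uB.add_left, D.uB.smul_left, hqq,
      mul_zero, add_zero]
    module
  set q₀ := g⁻¹ ⋄ z₀ with hq₀
  set L := ε * B q₀ (g⁻¹ ⋄ tens a w') - ε * B (tens a (phi f₁ a q₀)) q₀ with hL
  set C := -(ε * ε) * f₂ (phi f₁ a q₀) (phi f₁ a (g⁻¹ ⋄ tens a w')) with hC
  have key : ∀ r : F, σ r = r → r * L + r * r * C = 0 := by
    intro r hr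
    obtain ⟨h, hh, hhz⟩ := (D.root_PT p).mem r hr
    have hhi := D.elem_inv (D.root_PT p) hhz
    have hT : ∀ z, B z aw = 0 → ∃ t : F, h ⋄ z = z + (r * (κ * B z ae)) • ae + t • aw := fun z hz => by
      obtain ⟨t, ht⟩ := D.PT_near p H hz
      exact ⟨r * t, by rw [hhz, ht, ← haw, ← hae, ← hκ]; module⟩
    have hTi : ∀ z, B z aw = 0 → ∃ t : F, h⁻¹ ⋄ z = z + (-r * (κ * B z ae)) • ae + t • aw := fun z hz => by
      obtain ⟨t, ht⟩ := D.PT_near p H hz
      exact ⟨-r * t, by rw [hhi, ht, ← haw, ← hae, ← hκ]; module⟩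
    set d := h * g * h⁻¹ * g⁻¹ with hd
    have hdM : d ∈ M := M.mul_mem (M.mul_mem (M.mul_mem hh hg) (M.inv_mem hh)) (M.inv_mem hg)
    have hdz : ∀ z, d ⋄ z = h ⋄ (g ⋄ (h⁻¹ ⋄ (g⁻¹ ⋄ z))) := fun z => by
      rw [hd, gl_mul_mulVec, gl_mul_mulVec, gl_mul_mulVec]
    have hnd : ∀ z, B z aw = 0 → ∃ t : F, d ⋄ z = z + t • aw := by
      intro z hz
      obtain ⟨t1, h1⟩ := hinv z hz
      set z1 := g⁻¹ ⋄ z
      have b1 : B z1 aw = 0 := by rw [h1]; simp [-neg_smul, D.uB.add_left, D.uB.smul_left, hz, hqw, hww]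
      have c1 : B z1 ae = B z ae := by rw [h1]; simp [-neg_smul, D.uB.add_left, D.uB.smul_left, hqe, hwe]
      have d1 : B z1 q = B z q := by rw [h1]; simp [-neg_smul, D.uB.add_left, D.uB.smul_left, hqq, hwq]
      obtain ⟨t2, h2⟩ := hTi z1 b1
      set z2 := h⁻¹ ⋄ z1
      have b2 : B z2 aw = 0 := by rw [h2]; simp [-neg_smul, D.uB.add_left, D.uB.smul_left, b1, hew, hww]
      have c2 : B z2 ae = B z ae := by rw [h2]; simp [-neg_smul, D.uB.add_left, D.uB.smul_left, hee, hwe, c1]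
      have d2 : B z2 q = B z q := by rw [h2]; simp [-neg_smul, D.uB.add_left, D.uB.smul_left, heq, hwq, d1]
      obtain ⟨t3, h3⟩ := hnear z2 b2
      set z3 := g ⋄ z2
      have b3 : B z3 aw = 0 := by rw [h3]; simp [-neg_smul, D.uB.add_left, D.uB.smul_left, b2, hqw, hww]
      have c3 : B z3 ae = B z ae := by rw [h3]; simp [-neg_smul, D.uB.add_left, D.uB.smul_left, hqe, hwe, c2]
      obtain ⟨t4, h4⟩ := hT z3 b3
      refine ⟨t1 + t2 + t3 + t4, ?_⟩
      rw [hdz, h4, c3, h3, d2, h2, c1, h1]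
      module
    obtain ⟨-, A, μ, r', hμσ, hμ, -, hAa, hAc⟩ := D.stab_block hAS p hdM fun u => by
      obtain ⟨t, ht⟩ := hnd (tens a u) (hW _ _)
      rw [ht, D.phi_add, D.phi_smul, D.phi_a_a p, haw, D.phi_a_a p, smul_zero, add_zero]
    have hA : ∀ u, ∃ t : F, A ⋄ u = u + t • w := fun u => by
      obtain ⟨t, ht⟩ := hnd (tens a u) (hW _ _)
      refine ⟨t, ?_⟩
      have := congrArg (phi f₁ c) (hAa u)
      rw [ht, D.phi_add, D.phi_smul, haw, D.phi_c_a p, D.phi_c_a p, D.phi_c_a p] at this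
      exact this.symm
    have hcu : ∀ u, f₂ u w = 0 → μ⁻¹ • (A ⋄ u) = u ∧ ∃ t : F, r' • (A ⋄ u) = t • w := by
      intro u hu
      obtain ⟨t, ht⟩ := hnd (tens c u) (by rw [haw, D.B_tens, p.ca, one_mul, hu])
      have e1 := congrArg (phi f₁ a) (hAc u)
      have e2 := congrArg (phi f₁ c) (hAc u)
      rw [ht] at e1 e2
      simp only [D.phi_add, D.phi_smul, haw, D.phi_a_a p, D.phi_a_c p, D.phi_c_a p, D.phi_c_c p, smul_zero,
        zero_add, add_zero] at e1 e2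
      exact ⟨e1.symm, t, e2.symm⟩
    have hAw : A ⋄ w = w := by
      have h1 := hAa w
      rw [← haw, hdz, hgi, hhi, D.PT_apply, haw, D.phi_a_a p, tens_zero_right, smul_zero, smul_zero, add_zero,
        ← haw, hgw, hhz, D.PT_apply, haw, D.phi_a_a p, tens_zero_right, smul_zero, smul_zero, add_zero] at h1
      have := congrArg (phi f₁ c) h1
      rw [D.phi_c_a p, D.phi_c_a p] at this
      exact this.symm
    have hμ1 : μ⁻¹ = 1 := by
      have h1 := (hcu w H.ww).1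
      rw [hAw] at h1
      have := congrArg (fun x => f₂ x w') h1
      simpa [D.u2.smul_left, H.wd] using this
    have hr' : r' = 0 := by
      obtain ⟨h1, t, h2⟩ := hcu e H.ew
      rw [hμ1, one_smul] at h1
      rw [h1] at h2
      have := congrArg (fun x => f₂ x e) h2
      simp only [D.u2.smul_left, H.we, mul_zero, mul_eq_zero, H.ee, or_false] at this
      exact this
    have hE : B (d ⋄ z₀) z₀ = 0 := by
      rw [hz₀, hAc, hr', zero_smul, add_zero, D.uB.smul_left, D.B_tens, p.cc, zero_mul, mul_zero]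
    have e1 : B (d ⋄ z₀) z₀ = B (h⁻¹ ⋄ q₀) (g⁻¹ ⋄ (h⁻¹ ⋄ z₀)) := by
      rw [hdz, D.iso_left hh, D.iso_left hg]
    have e2 : h⁻¹ ⋄ z₀ = z₀ + (-r * ε) • tens a w' := by
      rw [hhi, D.PT_apply, hz₀, D.phi_a_c p, smul_smul]
    have e3 : h⁻¹ ⋄ q₀ = q₀ + (-r * ε) • tens a (phi f₁ a q₀) := by rw [hhi, D.PT_apply, smul_smul]
    have h00 : B q₀ q₀ = 0 := by
      rw [hq₀, D.iso _ (M.inv_mem hg), hz₀, D.B_tens, p.cc, zero_mul]
    rw [e1, e2, e3, Matrix.mulVec_add, Matrix.mulVec_smul, ← hq₀] at hE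
    simp only [D.uB.add_left, add_right D.uB, D.uB.smul_left, smul_right D.uB, h00, map_mul, map_neg, hr,
      D.hσε, D.B_phi' a (phi f₁ a q₀) (g⁻¹ ⋄ tens a w')] at hE
    rw [hL, hC]
    linear_combination hE
  obtain ⟨rq, hrq, hrq0, hrq1⟩ := D.hq
  have k1 := key 1 (map_one σ)
  have k2 := key rq hrq
  have hC0 : rq * (rq - 1) * C = 0 := by linear_combination k2 - rq * k1
  rw [mul_eq_zero, or_iff_right (mul_ne_zero hrq0 (sub_ne_zero.2 hrq1)), hC] at hC0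
  obtain ⟨t, ht⟩ := hinv (tens a w') (hW _ _)
  have h1 : f₂ (phi f₁ a q₀) w = 1 := by
    rw [← D.B_phi, hq₀, ← haw, ← hgi, D.iso _ (M.inv_mem hg), hz₀, haw, D.B_tens, p.ca, H.dw, one_mul]
  have h2 : B (tens a w') q = σ ν' := by rw [D.B_phi', hq, smul_right D.u2, H.dw, mul_one]
  rw [ht, D.phi_add, D.phi_add, D.phi_smul, D.phi_smul, D.phi_a_a p, haw, D.phi_a_a p, hq, h2, smul_zero,
    add_zero, zero_add, smul_smul, smul_right D.u2, h1, mul_one] at hC0
  exact mul_ne_zero (neg_ne_zero.2 (mul_ne_zero D.he0 D.he0))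
    ((map_ne_zero σ).2 (mul_ne_zero (neg_ne_zero.2 (mul_ne_zero hν ((map_ne_zero σ).2 hν'))) hν')) hC0

theorem iso_false (hAS : AllScalar M f₁) {a c : V2} (p : Pair f₁ a c) {P : V →ₗ[F] V}
    (hP : Root σ B M P) {w : V3} (hw : w ≠ 0) (hww₂ : f₂ w w = 0) (hPw : P (tens a w) = 0)
    (hX : ∀ u, phi f₁ a (P (tens a u)) = 0 → u ∈ Submodule.span F {w}) : False := by
  obtain ⟨e, w', H⟩ := D.exists_hyp hw hww₂
  set κ := ε / f₂ e e with hκ
  have hκ0 : κ ≠ 0 := div_ne_zero D.he0 H.ee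
  have hσκ : σ κ = -κ := by rw [hκ, map_div₀, self_fixed D.u2, D.hσε, neg_div]
  set aw := tens a w with haw
  set ae := tens a e with hae
  set cw := tens c w with hcw
  have hW : ∀ x y : V3, B (tens a x) (tens a y) = 0 := fun x y => by rw [D.B_tens, p.aa, zero_mul]
  have hwe : B aw ae = 0 := hW _ _
  have hew : B ae aw = 0 := hW _ _
  have hww : B aw aw = 0 := hW _ _
  have hee : B ae ae = 0 := hW _ _
  set v' := ae + P ae with hv'
  have hvw : B v' aw = 0 := by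
    have h := hP.skew ae aw
    rw [hPw, zero_right D.uB, add_zero] at h
    rw [hv', D.uB.add_left, hew, h, add_zero]
  have hwv : B aw v' = 0 := swap_eq_zero D.uB hvw
  have hvv : B v' v' = 0 := by
    rw [hv', D.uB.add_left, add_right D.uB, add_right D.uB, hee, D.root_skew' hP (P ae) ae, hP.sq,
      form_zero_left (isLinearLeft_of_unitary D.uB)]
    linear_combination hP.skew ae ae
  set y := phi f₁ a v' with hy
  have hyw : f₂ y w = 0 := by rw [hy, ← D.B_phi]; exact hvw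
  set η := B v' ae with hη
  have hye : f₂ y e = η := by rw [hη, hy, hae, D.B_phi]
  have hy0 : y ≠ 0 := fun h0 => by
    rw [hy, hv', D.phi_add, hae, D.phi_a_a p, zero_add] at h0
    obtain ⟨t, ht⟩ := Submodule.mem_span_singleton.1 (hX e h0)
    exact H.ee (by rw [← ht, D.u2.smul_left, smul_right D.u2, H.ww, mul_zero, mul_zero])
  obtain ⟨g₁, hg₁, hg₁z⟩ := hP.mem 1 (map_one σ)
  set P' := conjP g₁ (D.PT a) with hP'
  have hR : Root σ B M P' := D.root_conj (D.root_PT p) hg₁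
  have hg₁w : g₁ ⋄ aw = aw := by rw [hg₁z, hPw, smul_zero, add_zero]
  have hg₁e : g₁ ⋄ ae = v' := by rw [hg₁z, one_smul]
  have hP'w : P' aw = 0 := by
    rw [hP', conjP_apply, show g₁⁻¹ ⋄ aw = aw by conv_lhs => rw [← hg₁w, gl_inv_mulVec],
      D.PT_apply, haw, D.phi_a_a p, tens_zero_right, smul_zero, Matrix.mulVec_zero]
  have hnear : ∀ z, B z aw = 0 → ∃ t : F, P' z = (κ * B z v') • v' + t • aw := by
    intro z hz
    have hz' : B (g₁⁻¹ ⋄ z) aw = 0 := by rw [← D.iso_right hg₁, hg₁w, hz]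
    obtain ⟨t, ht⟩ := D.PT_near p H hz'
    refine ⟨t, ?_⟩
    rw [hP', conjP_apply, ht, ← haw, ← hae, ← hκ, Matrix.mulVec_add, Matrix.mulVec_smul, Matrix.mulVec_smul,
      hg₁w, hg₁e, ← D.iso_right hg₁, hg₁e]
  have hstep : ∀ {Q : V →ₗ[F] V} {v : V}, Root σ B M Q → Q aw = 0 →
      (∀ z, B z aw = 0 → ∃ t : F, Q z = (κ * B z v) • v + t • aw) → ∀ s : F, σ s = s →
      ∃ g ∈ M, g ⋄ aw = aw ∧ ∀ z, B z aw = 0 → ∃ t : F, g ⋄ z = z + (s * (κ * B z v)) • v + t • aw := by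
    intro Q v hQ hQw hQn s hs
    obtain ⟨g, hg, hgz⟩ := hQ.mem s hs
    refine ⟨g, hg, by rw [hgz, hQw, smul_zero, add_zero], fun z hz => ?_⟩
    obtain ⟨t, ht⟩ := hQn z hz
    exact ⟨s * t, by rw [hgz, ht]; module⟩
  by_cases hη0 : η = 0
  · obtain ⟨g, hg, hgw, hgn⟩ := hstep hR hP'w hnear 1 (map_one σ)
    have hyw' : y = f₂ y w' • w := by
      conv_lhs => rw [D.split2 H y, hye, hη0, hyw, zero_div, zero_smul, zero_smul, add_zero, add_zero]
    refine D.iso_finish hAS p H hg hgw (q := v') (ν := κ) (ν' := f₂ y w') hκ0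
      (fun h0 => hy0 (by rw [hyw', h0, zero_smul])) hyw' hvv fun z hz => ?_
    obtain ⟨t, ht⟩ := hgn z hz
    exact ⟨t, by rw [ht, one_mul]⟩
  set θ := B cw v' with hθdef
  have hσκη : σ (κ * κ * (η * σ η)) = κ * κ * (η * σ η) := by
    rw [map_mul, map_mul, map_mul, hσκ, D.sigma_sigma]; ring
  have hση : σ η ≠ 0 := by simpa using hη0
  have hK0 : κ * κ * (η * σ η) ≠ 0 := mul_ne_zero (mul_ne_zero hκ0 hκ0) (mul_ne_zero hη0 hση)
  have hθ : θ = 0 := by
    obtain ⟨c₀, hc₀, hc₀0, hc₀1⟩ := D.hq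
    set r₂ := (c₀ - 1) / (κ * κ * (η * σ η)) with hr₂
    have hσr₂ : σ r₂ = r₂ := by rw [hr₂, map_div₀, map_sub, map_one, hc₀, hσκη]
    obtain ⟨g1, hg1, hg1w, hg1n⟩ := hstep hR hP'w hnear 1 (map_one σ)
    obtain ⟨g2, hg2, hg2z⟩ := (D.root_PT p).mem r₂ hσr₂
    obtain ⟨g3, hg3, hg3w, hg3n⟩ := hstep hR hP'w hnear (-c₀⁻¹) (by rw [map_neg, map_inv₀, hc₀])
    have hg2w : g2 ⋄ aw = aw := by
      rw [hg2z, D.PT_apply, haw, D.phi_a_a p, tens_zero_right, smul_zero, smul_zero, add_zero]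
    have hd : ∀ z, B z aw = 0 → B z ae = 0 →
        ∃ t : F, (g3 * g2 * g1) ⋄ z = z + (r₂ * (κ * (κ * B z v' * η))) • ae + t • aw := by
      intro z hz hze
      obtain ⟨t1, h1⟩ := hg1n z hz
      set z1 := g1 ⋄ z
      have b1 : B z1 aw = 0 := by rw [h1]; simp [-neg_smul, D.uB.add_left, D.uB.smul_left, hz, hvw, hww]
      have c1 : B z1 ae = κ * B z v' * η := by rw [h1]; simp [-neg_smul, D.uB.add_left, D.uB.smul_left, hze, hwe, hη]
      have d1 : B z1 v' = B z v' := by rw [h1]; simp [-neg_smul, D.uB.add_left, D.uB.smul_left, hvv, hwv]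
      obtain ⟨t2, h2⟩ := D.PT_near p H b1
      have h2' : g2 ⋄ z1 = z1 + (r₂ * (κ * B z1 ae)) • ae + (r₂ * t2) • aw := by
        rw [hg2z, h2, ← haw, ← hae, ← hκ]; module
      set z2 := g2 ⋄ z1
      have b2 : B z2 aw = 0 := by rw [h2']; simp [-neg_smul, D.uB.add_left, D.uB.smul_left, b1, hew, hww]
      have d2 : B z2 v' = B z v' + r₂ * (κ * (κ * B z v' * η)) * σ η := by
        rw [h2', c1]; simp [-neg_smul, D.uB.add_left, D.uB.smul_left, hwv, d1, hη, ← D.uB.herm]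
      obtain ⟨t3, h3⟩ := hg3n z2 b2
      refine ⟨t1 + r₂ * t2 + t3, ?_⟩
      rw [gl_mul_mulVec, gl_mul_mulVec, h3, d2, h2', c1, h1]
      have : 1 * (κ * B z v') + -c₀⁻¹ * (κ * (B z v' + r₂ * (κ * (κ * B z v' * η)) * σ η)) = 0 := by
        rw [hr₂]; field_simp; ring
      linear_combination (norm := module) this • v'
    obtain ⟨-, A, μ, r', -, -, -, hAa, hAc⟩ := D.stab_block hAS p
      (M.mul_mem (M.mul_mem hg3 hg2) hg1) fun u => by
        obtain ⟨t, ht⟩ := hd (tens a u) (hW _ _) (hW _ _)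
        rw [ht, D.phi_add, D.phi_add, D.phi_smul, D.phi_smul, hae, haw, D.phi_a_a p, D.phi_a_a p,
          D.phi_a_a p, smul_zero, smul_zero, add_zero, add_zero]
    have hAw : A ⋄ w = w := by
      have h1 := hAa w
      rw [← haw, gl_mul_mulVec, gl_mul_mulVec, hg1w, hg2w, hg3w] at h1
      have := congrArg (phi f₁ c) h1
      rw [haw, D.phi_c_a p, D.phi_c_a p] at this
      exact this.symm
    obtain ⟨t, ht⟩ := hd cw (by rw [hcw, haw, D.B_tens, p.ca, H.ww, mul_zero])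
      (by rw [hcw, hae, D.B_tens, p.ca, H.we, mul_zero])
    have e2 := congrArg (phi f₁ c) (hAc w)
    rw [← hcw, ht, hAw] at e2
    simp only [D.phi_add, D.phi_smul, haw, hae, hcw, D.phi_c_a p, D.phi_c_c p, smul_zero, zero_add] at e2
    have e3 := congrArg (fun x => f₂ x e) e2
    simp only [D.u2.add_left, D.u2.smul_left, H.we, mul_zero, add_zero, mul_eq_zero, H.ee, hκ0, hη0,
      or_false, false_or] at e3
    rcases e3 with e3 | e3
    · exact absurd e3 (div_ne_zero (sub_ne_zero.2 hc₀1) hK0)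
    · rw [hθdef, hcw, ← hcw]; exact e3
  have hxw : f₂ (phi f₁ c v') w = 0 := by rw [← D.B_phi]; exact swap_eq_zero D.uB hθ
  have hfam : ∀ ν : F, ∃ Q : V →ₗ[F] V, Root σ B M Q ∧ Q aw = 0 ∧
      ∀ z, B z aw = 0 → ∃ t : F, Q z = (κ * B z (v' + ν • cw)) • (v' + ν • cw) + t • aw := by
    intro ν
    obtain ⟨N, t, hN, hNw, hNe, -⟩ := D.exists_heis H (σ (-ν / η))
    rw [D.sigma_sigma] at hNe
    set k := kronGL (1 : GL (Fin 2) F) N
    have hNu : ∀ u, f₂ u w = 0 → N ⋄ u = u + (ν / η * f₂ u e) • w := fun u hu => by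
      have := H.ee
      conv_lhs => rw [D.split2 H u, hu, zero_smul, add_zero, Matrix.mulVec_add, Matrix.mulVec_smul,
        Matrix.mulVec_smul, hNw, hNe]
      conv_rhs => arg 1; rw [D.split2 H u, hu, zero_smul, add_zero]
      match_scalars <;> field_simp
    have hkw : k ⋄ aw = aw := by rw [haw, D.side2_tens, hNw]
    have hkv : k ⋄ v' = v' + ν • cw + (ν / η * f₂ (phi f₁ c v') e) • aw := by
      conv_lhs => rw [D.expand p v', Matrix.mulVec_add, D.side2_tens, D.side2_tens, hNu _ hxw, ← hy,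
        hNu _ hyw, hye, div_mul_cancel₀ _ hη0]
      conv_rhs => arg 1; arg 1; rw [D.expand p v', ← hy]
      rw [tens_add_right, tens_add_right, tens_smul_right, tens_smul_right, ← haw, ← hcw]
      abel
    refine ⟨conjP k P', D.root_conj hR hN, ?_, fun z hz => ?_⟩
    · rw [conjP_apply, show k⁻¹ ⋄ aw = aw by conv_lhs => rw [← hkw, gl_inv_mulVec], hP'w, Matrix.mulVec_zero]
    · have hz' : B (k⁻¹ ⋄ z) aw = 0 := by rw [← D.iso_right hN, hkw, hz]
      obtain ⟨s, hs⟩ := hnear _ hz'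
      have hb : B (k⁻¹ ⋄ z) v' = B z (v' + ν • cw) := by
        rw [← D.iso_right hN, hkv, add_right D.uB, smul_right D.uB, hz, mul_zero, add_zero]
      refine ⟨κ * B z (v' + ν • cw) * (ν / η * f₂ (phi f₁ c v') e) + s, ?_⟩
      rw [conjP_apply, hs, Matrix.mulVec_add, Matrix.mulVec_smul, Matrix.mulVec_smul, hkw, hkv, hb]
      module
  obtain ⟨t₁, ht₁⟩ := exists_add_ne_zero D.u1
  obtain ⟨Q0, hQ0, hQ0w, hQ0n⟩ := hfam 0
  obtain ⟨Q1, hQ1, hQ1w, hQ1n⟩ := hfam 1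
  obtain ⟨Q2, hQ2, hQ2w, hQ2n⟩ := hfam t₁
  obtain ⟨Q3, hQ3, hQ3w, hQ3n⟩ := hfam (1 + t₁)
  obtain ⟨k0, hk0, hk0w, hk0n⟩ := hstep hQ0 hQ0w hQ0n 1 (map_one σ)
  obtain ⟨k1, hk1, hk1w, hk1n⟩ := hstep hQ1 hQ1w hQ1n (-1) (by rw [map_neg, map_one])
  obtain ⟨k2, hk2, hk2w, hk2n⟩ := hstep hQ2 hQ2w hQ2n (-1) (by rw [map_neg, map_one])
  obtain ⟨k3, hk3, hk3w, hk3n⟩ := hstep hQ3 hQ3w hQ3n 1 (map_one σ)
  have hcv : B cw v' = 0 := hθ
  have hvc : B v' cw = 0 := swap_eq_zero D.uB hθ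
  have hcc : B cw cw = 0 := by rw [hcw, D.B_tens, p.cc, zero_mul]
  have hcwa : B cw aw = 0 := by rw [hcw, haw, D.B_tens, p.ca, H.ww, mul_zero]
  have hawc : B aw cw = 0 := swap_eq_zero D.uB hcwa
  refine D.iso_finish hAS p H (g := k3 * k2 * k1 * k0)
    (M.mul_mem (M.mul_mem (M.mul_mem hk3 hk2) hk1) hk0)
    (by rw [gl_mul_mulVec, gl_mul_mulVec, gl_mul_mulVec, hk0w, hk1w, hk2w, hk3w]) (q := cw)
    (ν := κ * (t₁ + σ t₁)) (ν' := 1) (mul_ne_zero hκ0 ht₁) one_ne_zero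
    (by rw [hcw, D.phi_a_c p, one_smul]) hcc fun z hz => ?_
  have hmove : ∀ {x : V} {r s t : F}, B x aw = 0 →
      B (x + r • (v' + s • cw) + t • aw) aw = 0 := fun {x r s t} hx => by
    simp [-neg_smul, D.uB.add_left, D.uB.smul_left, hx, hvw, hcwa, hww]
  have hkeep : ∀ {x : V} {r s t u : F},
      B (x + r • (v' + s • cw) + t • aw) (v' + u • cw) = B x (v' + u • cw) := fun {x r s t u} => by
    simp [-neg_smul, D.uB.add_left, D.uB.smul_left, add_right D.uB, smul_right D.uB, hvv, hvc, hcv, hcc, hwv, hawc]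
  obtain ⟨s0, e0⟩ := hk0n z hz
  obtain ⟨s1, e1⟩ := hk1n (k0 ⋄ z) (by rw [e0]; exact hmove hz)
  obtain ⟨s2, e2⟩ := hk2n (k1 ⋄ (k0 ⋄ z)) (by rw [e1, e0]; exact hmove (hmove hz))
  obtain ⟨s3, e3⟩ := hk3n (k2 ⋄ (k1 ⋄ (k0 ⋄ z))) (by rw [e2, e1, e0]; exact hmove (hmove (hmove hz)))
  refine ⟨s0 + s1 + s2 + s3, ?_⟩
  rw [gl_mul_mulVec, gl_mul_mulVec, gl_mul_mulVec, e3, e2, e1, e0]
  simp only [hkeep]
  simp only [add_right D.uB, smul_right D.uB, map_add, map_one, map_zero]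
  module

end Data

end Cfsg.Agent.Lib.UnitTwoThree
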