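import Cfsg.Agent.Lib.UnitTwoThree.Rigid
import Cfsg.Agent.Lib.TensorFormMax.UnitMain

/-!
The stabiliser of a tensor product of a hermitian plane and a hermitian 3-space is maximal in `SU` of
dimension six.
Owner: helper95.
-/

set_option autoImplicit false

namespace Cfsg.Agent.Lib.UnitTwoThree

open Matrix Kronecker
open Cfsg.Agent.Lib.Subspaces.Transvection Cfsg.Agent.Lib.Subspaces.FormVec
  Cfsg.Agent.Lib.Subspaces.UnitaryForm Cfsg.Agent.Lib.Subspaces.UnitaryGen
  Cfsg.Agent.Lib.TensorMax.Block Cfsg.Agent.Lib.TensorMax.Lemmas Cfsg.Agent.Lib.TensorFormMax.Basic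
  Cfsg.Agent.Lib.TensorFormMax.UnitSide Cfsg.Agent.Lib.Forms.TensorFrame

/-- The tensor product stabiliser for `2 × 3` is maximal. -/
theorem maximal {F : Type*} [Field F] [Fintype F] (q : ℕ) (hF : Fintype.card F = q ^ 2) (hq : 3 ≤ q)
    (e : Fin 6 ≃ Fin 2 × Fin 3) (P : GL (Fin 6) F) (f₁ : (Fin 2 → F) → (Fin 2 → F) → F)
    (f₂ : (Fin 3 → F) → (Fin 3 → F) → F)
    (hf₁ : Cfsg.Geo.IsUnitaryFormPow q f₁) (hf₂ : Cfsg.Geo.IsUnitaryFormPow q f₂)
    (hT : Cfsg.Geo.IsTensorFormStructure (fun x : F => x ^ q) (Cfsg.hermForm 6 F q) f₁ f₂ e P) :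
    Cfsg.Geo.IsMaximalIn (Cfsg.GU 6 F q ⊓ Cfsg.Geo.specialLinear (Fin 6) F)
      (Cfsg.Geo.tensorProductSubgroup 2 3 e P ⊓ (Cfsg.GU 6 F q ⊓ Cfsg.Geo.specialLinear (Fin 6) F)) := by
  classical
  set σ := powAut hF with hσdef
  have hH := hermForm_isUnitary (n := 6) hF
  set h := Cfsg.hermForm 6 F q with hhdef
  rw [← hσdef] at hH
  have u1 : Cfsg.Geo.IsUnitaryForm σ f₁ :=
    ⟨hH.ne_refl, hH.involutive, hf₁.add_left, hf₁.smul_left, fun v w => hf₁.herm v w, hf₁.nondegenerate⟩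
  have u2 : Cfsg.Geo.IsUnitaryForm σ f₂ :=
    ⟨hH.ne_refl, hH.involutive, hf₂.add_left, hf₂.smul_left, fun v w => hf₂.herm v w, hf₂.nondegenerate⟩
  obtain ⟨c, hc, hBp⟩ := form_pure (f := h) (σ := fun x : F => x ^ q) (fun a b => mul_pow a b q)
    (eq_formOfGram (isLinearLeft_of_unitary u1) (Subspaces.UnitaryForm.add_right u1) (Subspaces.UnitaryForm.smul_right u1))
    (eq_formOfGram (isLinearLeft_of_unitary u2) (Subspaces.UnitaryForm.add_right u2) (Subspaces.UnitaryForm.smul_right u2)) hT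
  set φ : GL (Fin 2 × Fin 3) F ≃* GL (Fin 6) F :=
    (Cfsg.Geo.glReindex (F := F) e.symm).trans (MulAut.conj P) with hφ
  let T : (Fin 2 × Fin 3 → F) →ₗ[F] (Fin 6 → F) :=
    (Matrix.mulVecLin (P : Matrix (Fin 6) (Fin 6) F)).comp (LinearMap.funLeft F F e)
  have hTapp : ∀ z, T z = (P : Matrix (Fin 6) (Fin 6) F) *ᵥ (z ∘ e) := fun z => rfl
  have hTinj : Function.Injective T := fun a b h => by
    have := gl_mulVec_injective P (show (P : Matrix (Fin 6) (Fin 6) F) *ᵥ (a ∘ e) = _ *ᵥ (b ∘ e) from h)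
    funext p
    simpa using congrFun this (e.symm p)
  have hTsurj : Function.Surjective T := fun x =>
    ⟨(((P⁻¹ : GL (Fin 6) F) : Matrix (Fin 6) (Fin 6) F) *ᵥ x) ∘ e.symm, by
      rw [hTapp]
      conv_rhs => rw [← gl_mulVec_inv P x]
      congr 1
      funext i; simp⟩
  have hφT : ∀ g z, (φ g : Matrix (Fin 6) (Fin 6) F) *ᵥ T z =
      T ((g : Matrix (Fin 2 × Fin 3) (Fin 2 × Fin 3) F) *ᵥ z) := by
    intro g z
    rw [hTapp, hTapp]
    show ((P * Cfsg.Geo.glReindex e.symm g * P⁻¹ : GL (Fin 6) F) : Matrix (Fin 6) (Fin 6) F) *ᵥ _ = _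
    rw [gl_mul_mulVec, gl_mul_mulVec, gl_inv_mulVec]
    congr 1
    show (Matrix.reindexAlgEquiv F F e.symm) (g : Matrix (Fin 2 × Fin 3) (Fin 2 × Fin 3) F) *ᵥ _ = _
    rw [Matrix.coe_reindexAlgEquiv, Matrix.reindex_apply, Equiv.symm_symm, Matrix.submatrix_mulVec_equiv]
    congr 1
    congr 1
    funext p; simp
  obtain ⟨a1, ha1⟩ : ∃ a : Fin 2 → F, f₁ a a ≠ 0 := by
    obtain ⟨p, -, hp⟩ := exists_aniso_of_lt u1 (![] : Fin 0 → Fin 2 → F) (by norm_num)
    exact ⟨p, hp⟩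
  obtain ⟨a2, ha2⟩ : ∃ a : Fin 3 → F, f₂ a a ≠ 0 := by
    obtain ⟨p, -, hp⟩ := exists_aniso_of_lt u2 (![] : Fin 0 → Fin 3 → F) (by norm_num)
    exact ⟨p, hp⟩
  have hσc : σ c = c := by
    have h0 := self_fixed hH (pure e P a1 a2)
    rw [hBp, map_mul, map_mul, self_fixed u1, self_fixed u2] at h0
    exact mul_right_cancel₀ (mul_ne_zero ha1 ha2) h0
  set B : (Fin 2 × Fin 3 → F) → (Fin 2 × Fin 3 → F) → F := fun x y => c⁻¹ * h (T x) (T y) with hB
  have hB0 : ∀ u v x y, B (tens u x) (tens v y) = f₁ u v * f₂ x y := by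
    intro u v x y
    show c⁻¹ * h (pure e P u x) (pure e P v y) = _
    rw [hBp]
    field_simp
  have uB : Cfsg.Geo.IsUnitaryForm σ B :=
    { ne_refl := hH.ne_refl
      involutive := hH.involutive
      add_left := fun x y v => by simp only [hB, map_add, hH.add_left, mul_add]
      smul_left := fun d x v => by simp only [hB, map_smul, hH.smul_left, mul_left_comm]
      herm := fun x y => by
        show c⁻¹ * h _ _ = σ (c⁻¹ * h _ _)
        rw [map_mul, map_inv₀, hσc, ← hH.herm]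
      nondegenerate := fun v hv => by
        have hv' : T v ≠ 0 := fun e0 => hv (hTinj (e0.trans (map_zero T).symm))
        obtain ⟨⟨x, hx⟩, ⟨y, hy⟩⟩ := hH.nondegenerate _ hv'
        obtain ⟨x', rfl⟩ := hTsurj x
        obtain ⟨y', rfl⟩ := hTsurj y
        exact ⟨⟨x', mul_ne_zero (inv_ne_zero hc) hx⟩, ⟨y', mul_ne_zero (inv_ne_zero hc) hy⟩⟩ }
  have hdet : ∀ g : GL (Fin 2 × Fin 3) F, φ g ∈ Cfsg.Geo.specialLinear (Fin 6) F ↔
      (g : Matrix (Fin 2 × Fin 3) (Fin 2 × Fin 3) F).det = 1 := fun g => by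
    rw [mem_specialLinear_iff]
    have h1 := congrArg Units.val (Cfsg.Agent.Lib.TensorMax.Main.det_transport e.symm P g)
    rw [Matrix.GeneralLinearGroup.val_det_apply, Matrix.GeneralLinearGroup.val_det_apply, ← hφ] at h1
    rw [h1]
  have hGU : ∀ g : GL (Fin 2 × Fin 3) F, φ g ∈ Cfsg.GU 6 F q ↔
      ∀ x y, B ((g : Matrix (Fin 2 × Fin 3) (Fin 2 × Fin 3) F) *ᵥ x)
        ((g : Matrix (Fin 2 × Fin 3) (Fin 2 × Fin 3) F) *ᵥ y) = B x y := by
    intro g
    rw [mem_GU_iff']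
    refine ⟨fun hg x y => ?_, fun hg u v => ?_⟩
    · show c⁻¹ * h _ _ = c⁻¹ * h _ _
      rw [← hφT, ← hφT, hhdef, hg]
    · obtain ⟨u, rfl⟩ := hTsurj u
      obtain ⟨v, rfl⟩ := hTsurj v
      rw [hφT, hφT]
      exact mul_left_cancel₀ (inv_ne_zero hc) (hg u v)
  have hmem : ∀ x, φ x ∈ Cfsg.Geo.tensorProductSubgroup 2 3 e P ↔
      x ∈ Cfsg.Geo.kroneckerSubgroup 2 3 F := by
    intro x
    constructor
    · rintro ⟨y, ⟨z, hz, rfl⟩, hy⟩
      have : φ z = φ x := hy
      rwa [← φ.injective this]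
    · exact fun hx => ⟨_, ⟨x, hx, rfl⟩, rfl⟩
  have htv : ∀ (x : Fin 2 × Fin 3 → F) (a : F), h (T x) (T x) = 0 → ∀ z,
      ((φ.symm (tv (T x) (a • formVec h (T x)))) : Matrix (Fin 2 × Fin 3) (Fin 2 × Fin 3) F) *ᵥ z =
        z + (a * c * B z x) • x := by
    intro x a hx z
    refine hTinj ?_
    rw [← hφT, φ.apply_symm_apply, utv_mulVec hH hx, map_add, map_smul]
    simp only [hB]
    congr 2
    field_simp
  obtain ⟨e0, he0, he0'⟩ := exists_skew_scalar u1
  refine ⟨lt_of_le_of_ne inf_le_right fun heq => ?_, fun M hM hMle => ?_⟩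
  · obtain ⟨v, hv, hvv, -⟩ := exists_iso_orth u2 (Subspaces.UnitarySplit.norm_surjective hF)
      (![] : Fin 0 → Fin 3 → F) (by norm_num)
    set x := tens a1 v
    have hxx : h (T x) (T x) = 0 := by
      show h (pure e P a1 v) (pure e P a1 v) = 0
      rw [hBp, hvv, mul_zero, mul_zero]
    have hg := utv_mem_SU hF hxx he0'
    rw [← heq, Subgroup.mem_inf] at hg
    have hk := (hmem _).1 (show φ (φ.symm (tv (T x) (e0 • formVec h (T x)))) ∈ _ by
      rw [φ.apply_symm_apply]; exact hg.1)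
    have ha10 : a1 ≠ 0 := fun e => ha1 (by rw [e, herm_zero_left u1])
    refine TensorFormMax.UnitMain.rank_one_not_kron le_rfl (by norm_num) (x := x)
      (φ := (e0 * c) • formVec B x) ?_ ?_ (fun z => ?_) hk
    · exact fun e' => ha10 (tens_injective hv (show tens a1 v = tens 0 v by
        rw [show tens a1 v = 0 from e', tens_zero_left]))
    · intro e'
      obtain ⟨w, hw⟩ := (u2.nondegenerate v hv).1
      have h0 := formVec_dot (isLinearLeft_of_unitary uB) x (tens a1 w)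
      rw [(smul_eq_zero.1 e').resolve_left (mul_ne_zero he0 hc), zero_dotProduct, hB0] at h0
      exact mul_ne_zero ha1 hw h0.symm
    · rw [htv x e0 hxx, smul_dotProduct, formVec_dot (isLinearLeft_of_unitary uB), smul_eq_mul]
  · set M' := M.comap φ.toMonoidHom with hM'
    have hsub : ∀ g ∈ M', φ g ∈ Cfsg.GU 6 F q ⊓ Cfsg.Geo.specialLinear (Fin 6) F := fun g hg => hMle hg
    have D : Data σ e0 f₁ f₂ B M' :=
      { u1 := u1, u2 := u2, uB := uB, he0 := he0, hσε := eq_neg_of_add_eq_zero_right he0'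
        B_tens := hB0
        iso := fun g hg => (hGU g).1 (hsub g hg).1
        stab := fun g hk hd hi => hM ⟨(hmem g).2 hk, (hGU g).2 hi, (hdet g).2 hd⟩
        det1 := fun g hg => (hdet g).1 (hsub g hg).2
        hq := by
          by_contra hct
          push Not at hct
          have h2 := Cfsg.Agent.Lib.Unitary.card_fixed hF
          have hle : Nat.card {x : F // x ^ q = x} ≤ Nat.card (({0, 1} : Finset F)) := by
            refine Nat.card_le_card_of_injective (fun x => ⟨x.1, ?_⟩) fun a b e => by simpa [Subtype.ext_iff] using e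
            rcases eq_or_ne x.1 0 with e | e
            · simp [e]
            · simp [hct x.1 x.2 e]
          rw [h2, Nat.card_eq_finsetCard, Finset.card_pair zero_ne_one] at hle
          omega }
    by_cases hAS : AllScalar M' f₁
    · refine Or.inl (le_antisymm (fun x hx => ⟨?_, hMle hx⟩) hM)
      have := (hmem _).2 (D.mem_kron_of_allScalar hAS (g := φ.symm x)
        (show φ (φ.symm x) ∈ M by rwa [φ.apply_symm_apply]))
      rwa [φ.apply_symm_apply] at this
    · obtain ⟨a, ha, haa, A, hA, hAn⟩ : ∃ a : Fin 2 → F, a ≠ 0 ∧ f₁ a a = 0 ∧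
          ∃ A : (Fin 3 → F) →ₗ[F] (Fin 3 → F), InR M' f₁ a A ∧ ∀ r : F, ∃ x, A x ≠ r • x := by
        simpa [AllScalar] using hAS
      obtain ⟨a', p⟩ := D.exists_pair ha haa
      refine Or.inr (le_antisymm hMle (su_le hF (by norm_num) fun v hv => ⟨hv, fun b hb => ?_⟩))
      obtain ⟨x, rfl⟩ := hTsurj v
      have hx : B x x = 0 := by simp only [hB]; rw [show h (T x) (T x) = 0 from hv, mul_zero]
      have hbc : b * c + σ (b * c) = 0 := by rw [map_mul, hσc]; linear_combination c * hb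
      obtain ⟨-, hcen⟩ := D.centers_all p hA hAn x hx
      have he : φ.symm (tv (T x) (b • formVec h (T x))) = tv x ((b * c) • formVec B x) :=
        gl_ext fun z => by rw [htv x b hv, utv_mulVec uB hx]
      have hm : φ (tv x ((b * c) • formVec B x)) ∈ M := hcen _ hbc
      rwa [← he, φ.apply_symm_apply] at hm

end Cfsg.Agent.Lib.UnitTwoThree
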