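import Cfsg.Agent.Lib.UnitTwoThree.Three

/-!
Without non-scalar radical elements an overgroup consists of Kronecker products.
Owner: helper95.
-/

set_option autoImplicit false
set_option linter.unusedSectionVars false

namespace Cfsg.Agent.Lib.UnitTwoThree

open Matrix Kronecker
open Cfsg.Agent.Lib.Subspaces.Transvection Cfsg.Agent.Lib.Subspaces.FormVec
  Cfsg.Agent.Lib.Subspaces.UnitaryForm
  Cfsg.Agent.Lib.TensorMax.Block Cfsg.Agent.Lib.TensorMax.Lemmas Cfsg.Agent.Lib.TensorFormMax.Basic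

variable {F : Type*} [Field F]

local notation "V2" => Fin 2 → F
local notation "V3" => Fin 3 → F
local notation "V" => Fin 2 × Fin 3 → F
local notation:80 g:81 " ⋄ " z:80 => Matrix.mulVec (Units.val g) z

/-- The coefficients of a root with range in the two tensors over an isotropic vector. -/
def Coef (f₁ : V2 → V2 → F) (f₂ : V3 → V3 → F) (a c : V2) (w : V3) (P : V →ₗ[F] V)
    (h11 h21 h12 h22 : F) : Prop :=
  ∀ z, P z = f₂ (phi f₁ c z) w • (h11 • tens a w + h21 • tens c w) +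
    f₂ (phi f₁ a z) w • (h12 • tens a w + h22 • tens c w)

namespace Data

variable {σ : F ≃+* F} {ε : F} {f₁ : (Fin 2 → F) → (Fin 2 → F) → F}
  {f₂ : (Fin 3 → F) → (Fin 3 → F) → F} {B : (Fin 2 × Fin 3 → F) → (Fin 2 × Fin 3 → F) → F}
  {M : Subgroup (GL (Fin 2 × Fin 3) F)} (D : Data σ ε f₁ f₂ B M) [Finite F]
include D

theorem exists_in_block (hAS : AllScalar M f₁) {g : GL (Fin 2 × Fin 3) F} (hg : g ∈ M) {w : V3}
    (hww : f₂ w w = 0) {a c : V2} (p : Pair f₁ a c) :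
    ∃ u, u ≠ 0 ∧ phi f₁ a (g⁻¹ ⋄ tens u w) = 0 := by
  by_contra hc
  push Not at hc
  have hc' : ∀ u, phi f₁ a (g⁻¹ ⋄ tens u w) = 0 → u = 0 := fun u h => by
    by_contra hu; exact hc u hu h
  set P := conjP g⁻¹ (RW ε f₂ w) with hPdef
  have hP : Root σ B M P := D.root_conj (D.root_RW hww) (M.inv_mem hg)
  have hPz : ∀ z, P z = ε • (g⁻¹ ⋄
      tens (f₂ (phi f₁ c (g ⋄ z)) w • a + f₂ (phi f₁ a (g ⋄ z)) w • c) w) := fun z => by
    rw [hPdef, conjP_apply, inv_inv, D.RW_apply p hww, Matrix.mulVec_smul]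
  have hR : ∀ z, phi f₁ a (P z) = 0 →
      f₂ (phi f₁ c (g ⋄ z)) w = 0 ∧ f₂ (phi f₁ a (g ⋄ z)) w = 0 := fun z h => by
    rw [hPz, D.phi_smul, smul_eq_zero, or_iff_right D.he0] at h
    have h' := hc' _ h
    have e1 := congrArg (fun x => f₁ x c) h'
    have e2 := congrArg (fun x => f₁ x a) h'
    simp only [D.u1.add_left, D.u1.smul_left, p.ac, p.cc, p.aa, p.ca, herm_zero_left D.u1, mul_one, mul_zero,
      add_zero, zero_add] at e1 e2
    exact ⟨e1, e2⟩
  have hR' : ∀ z, phi f₁ a (P z) = 0 → P z = 0 := fun z h => by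
    obtain ⟨e1, e2⟩ := hR z h
    rw [hPz, e1, e2, zero_smul, zero_smul, add_zero, tens_zero_left, Matrix.mulVec_zero, smul_zero]
  set La := phi f₁ a (g⁻¹ ⋄ tens a w) with hLa
  set Lc := phi f₁ a (g⁻¹ ⋄ tens c w) with hLc
  have hb : ∀ u b, f₂ (phi f₁ b (g ⋄ tens a u)) w = f₂ u (phi f₁ a (g⁻¹ ⋄ tens b w)) := fun u b => by
    rw [← D.B_phi, ← D.B_phi', D.iso_left hg]
  have hind : ∀ α β : F, α • La + β • Lc = 0 → α = 0 ∧ β = 0 := fun α β h => by
    have h' : α • a + β • c = 0 := hc' _ (by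
      rw [tens_add_left, tens_smul_left, tens_smul_left, Matrix.mulVec_add, Matrix.mulVec_smul,
        Matrix.mulVec_smul, D.phi_add, D.phi_smul, D.phi_smul]
      exact h)
    have e1 := congrArg (fun x => f₁ x c) h'
    have e2 := congrArg (fun x => f₁ x a) h'
    simp only [D.u1.add_left, D.u1.smul_left, p.ac, p.cc, p.aa, p.ca, herm_zero_left D.u1, mul_one, mul_zero,
      add_zero, zero_add] at e1 e2
    exact ⟨e1, e2⟩
  obtain ⟨i, hi, hio⟩ := TensorFormMax.UnitSide.exists_orth D.u2 (![] : Fin 0 → V3) ![La, Lc] (by norm_num)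
  have hi0 : i ≠ 0 := fun h => hi (by rw [h]; exact Submodule.zero_mem _)
  have hiL : f₂ i La = 0 := hio 0
  have hiL' : f₂ i Lc = 0 := hio 1
  obtain ⟨t₁, ht₁, ht₁'⟩ := dual_right D.u2 (S := Submodule.span F {Lc}) (z := La) fun hm => by
    obtain ⟨d, hd⟩ := Submodule.mem_span_singleton.1 hm
    exact one_ne_zero (hind 1 (-d) (by rw [one_smul, neg_smul, hd, add_neg_cancel])).1
  obtain ⟨t₂, ht₂, ht₂'⟩ := dual_right D.u2 (S := Submodule.span F {La}) (z := Lc) fun hm => by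
    obtain ⟨d, hd⟩ := Submodule.mem_span_singleton.1 hm
    exact one_ne_zero (hind (-d) 1 (by rw [one_smul, neg_smul, hd, neg_add_cancel])).2
  have q1 := ht₁ Lc (Submodule.mem_span_singleton_self _)
  have q2 := ht₂ La (Submodule.mem_span_singleton_self _)
  have hker : ∀ u, f₂ u La = 0 → f₂ u Lc = 0 → u ∈ Submodule.span F {i} := by
    intro u h1 h2
    have hli : LinearIndependent F ![t₁, t₂, i] := by
      rw [Fintype.linearIndependent_iff]
      intro co hco
      simp only [Fin.sum_univ_three, Matrix.cons_val_zero, Matrix.cons_val_one, Matrix.cons_val_two,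
        Matrix.tail_cons, Matrix.head_cons] at hco
      have e1 := congrArg (fun x => f₂ x La) hco
      have e2 := congrArg (fun x => f₂ x Lc) hco
      simp only [D.u2.add_left, D.u2.smul_left, ht₁', q2, hiL, q1, ht₂', hiL', herm_zero_left D.u2, mul_one,
        mul_zero, add_zero, zero_add] at e1 e2
      rw [e1, e2, zero_smul, zero_smul, zero_add, zero_add, smul_eq_zero, or_iff_left hi0] at hco
      intro j
      fin_cases j
      exacts [e1, e2, hco]
    have htop := hli.span_eq_top_of_card_eq_finrank (by rw [Fintype.card_fin, Module.finrank_fin_fun])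
    obtain ⟨co, hco⟩ := (Submodule.mem_span_range_iff_exists_fun F).1 (htop ▸ Submodule.mem_top (x := u))
    simp only [Fin.sum_univ_three, Matrix.cons_val_zero, Matrix.cons_val_one, Matrix.cons_val_two,
      Matrix.tail_cons, Matrix.head_cons] at hco
    rw [← hco] at h1 h2
    simp only [D.u2.add_left, D.u2.smul_left, ht₁', q2, hiL, q1, ht₂', hiL', mul_one, mul_zero, add_zero,
      zero_add] at h1 h2
    rw [← hco, h1, h2, zero_smul, zero_smul, zero_add, zero_add]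
    exact Submodule.smul_mem _ _ (Submodule.mem_span_singleton_self i)
  have hPi : P (tens a i) = 0 := by
    rw [hPz, hb, hb, ← hLa, ← hLc, hiL, hiL', zero_smul, zero_smul, add_zero, tens_zero_left,
      Matrix.mulVec_zero, smul_zero]
  have hX : ∀ u, phi f₁ a (P (tens a u)) = 0 → u ∈ Submodule.span F {i} := fun u h => by
    obtain ⟨e1, e2⟩ := hR _ h
    rw [hb] at e1 e2
    exact hker u e2 e1
  by_cases hii : f₂ i i = 0
  · exact D.iso_false hAS p hP hi0 hii hPi hX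
  · exact D.aniso_false hAS p hP hii hPi hX hR'

theorem range_line (hAS : AllScalar M f₁) {g : GL (Fin 2 × Fin 3) F} (hg : g ∈ M) {w : V3} (hw : w ≠ 0)
    (hww : f₂ w w = 0) :
    ∃ w₁, w₁ ≠ 0 ∧ f₂ w₁ w₁ = 0 ∧ ∀ u, ∃ v, g⁻¹ ⋄ tens u w = tens v w₁ := by
  obtain ⟨a, c, p⟩ := D.exists_pair'
  have pick : ∀ {b b' : V2}, Pair f₁ b b' → ∃ u x, u ≠ 0 ∧ x ≠ 0 ∧ g⁻¹ ⋄ tens u w = tens b x := by
    intro b b' q
    obtain ⟨u, hu, h⟩ := D.exists_in_block hAS hg hww q
    refine ⟨u, phi f₁ b' (g⁻¹ ⋄ tens u w), hu, fun h0 => hu ?_, D.mem_block q h⟩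
    have h1 : g⁻¹ ⋄ tens u w = 0 := by rw [D.mem_block q h, h0, tens_zero_right]
    have h2 : tens u w = 0 := gl_mulVec_injective g⁻¹ (h1.trans (Matrix.mulVec_zero _).symm)
    exact tens_injective hw (h2.trans (tens_zero_left w).symm)
  obtain ⟨u₁, x₁, hu₁, hx₁, e₁⟩ := pick p
  obtain ⟨u₂, x₂, hu₂, hx₂, e₂⟩ := pick (D.pair_swap p)
  obtain ⟨u₃, x₃, hu₃, hx₃, e₃⟩ := pick (D.pair_third p)
  have hind : LinearIndependent F ![u₁, u₂] := by
    rw [LinearIndependent.pair_iff]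
    intro s t hst
    have h := congrArg (fun u => g⁻¹ ⋄ tens u w) hst
    simp only [tens_add_left, tens_smul_left, Matrix.mulVec_add, Matrix.mulVec_smul, tens_zero_left,
      Matrix.mulVec_zero, e₁, e₂] at h
    have h1 := congrArg (phi f₁ a) h
    have h2 := congrArg (phi f₁ c) h
    simp only [D.phi_add, D.phi_smul, D.phi_a_a p, D.phi_a_c p, D.phi_c_a p, D.phi_c_c p, D.phi_zero,
      smul_zero, zero_add, add_zero, smul_eq_zero, hx₁, hx₂, or_false] at h1 h2
    exact ⟨h2, h1⟩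
  have htop := hind.span_eq_top_of_card_eq_finrank (by rw [Fintype.card_fin, Module.finrank_fin_fun])
  have hall : ∀ u, ∃ s t : F, u = s • u₁ + t • u₂ := fun u => by
    obtain ⟨co, hco⟩ := (Submodule.mem_span_range_iff_exists_fun F).1 (htop ▸ Submodule.mem_top (x := u))
    simp only [Fin.sum_univ_two, Matrix.cons_val_zero, Matrix.cons_val_one] at hco
    exact ⟨_, _, hco.symm⟩
  obtain ⟨α, β, h3⟩ := hall u₃
  rw [h3, tens_add_left, tens_smul_left, tens_smul_left, Matrix.mulVec_add, Matrix.mulVec_smul,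
    Matrix.mulVec_smul, e₁, e₂, tens_add_left, tens_smul_left] at e₃
  have q1 := congrArg (phi f₁ a) e₃
  have q2 := congrArg (phi f₁ c) e₃
  simp only [D.phi_add, D.phi_smul, D.phi_a_a p, D.phi_a_c p, D.phi_c_a p, D.phi_c_c p, smul_zero, zero_add,
    add_zero] at q1 q2
  have hα : α ≠ 0 := fun h => hx₃ ((smul_eq_zero.1 (show ε • x₃ = 0 by rw [← q2, h, zero_smul])).resolve_left
    D.he0)
  have hprop : x₁ = (ε * β / α) • x₂ := by
    rw [← inv_smul_smul₀ hα x₁, q2, ← q1, smul_smul, smul_smul]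
    ring_nf
  set d := ε * β / α
  have hd : d ≠ 0 := fun h => hx₁ (by rw [hprop, h, zero_smul])
  refine ⟨x₂, hx₂, ?_, fun u => ?_⟩
  · have h := D.iso _ (M.inv_mem hg) (tens u₁ w) (tens u₂ w)
    rw [e₁, e₂, D.B_tens, D.B_tens, hww, mul_zero, p.ac, one_mul, hprop, D.u2.smul_left, mul_eq_zero,
      or_iff_right hd] at h
    exact h
  · obtain ⟨s, t, rfl⟩ := hall u
    refine ⟨(s * d) • a + t • c, ?_⟩
    rw [tens_add_left, tens_smul_left, tens_smul_left, Matrix.mulVec_add, Matrix.mulVec_smul,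
      Matrix.mulVec_smul, e₁, e₂, hprop, tens_smul_right, smul_smul, tens_add_left, tens_smul_left,
      tens_smul_left]

variable {a c : Fin 2 → F} {w w' e : Fin 3 → F} {P : (Fin 2 × Fin 3 → F) →ₗ[F] (Fin 2 × Fin 3 → F)}
  {h11 h21 h12 h22 : F}

theorem coef_kill (p : Pair f₁ a c) (H : Hyp f₂ w e w') (hC : Coef f₁ f₂ a c w P h11 h21 h12 h22)
    (s t : F) : P (s • tens a w + t • tens c w) = 0 := by
  rw [hC]
  simp [D.phi_add, D.phi_smul, D.phi_a_a p, D.phi_a_c p, D.phi_c_a p, D.phi_c_c p, D.u2.smul_left, H.ww,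
    herm_zero_left D.u2]

theorem coef_mul (p : Pair f₁ a c) (H : Hyp f₂ w e w') {Q : V →ₗ[F] V} {k11 k21 k12 k22 : F}
    (hC : Coef f₁ f₂ a c w P h11 h21 h12 h22) (hQ : Coef f₁ f₂ a c w Q k11 k21 k12 k22) (z : V) :
    P (Q z) = 0 := by
  rw [hQ, map_add, map_smul, map_smul, D.coef_kill p H hC, D.coef_kill p H hC, smul_zero, smul_zero,
    add_zero]

theorem coef_skew (p : Pair f₁ a c) (H : Hyp f₂ w e w') (hP : Root σ B M P)
    (hC : Coef f₁ f₂ a c w P h11 h21 h12 h22) :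
    σ h21 = -h21 ∧ σ h12 = -h12 ∧ σ h22 = -h11 := by
  have ea : P (tens a w') = h11 • tens a w + h21 • tens c w := by
    rw [hC, D.phi_c_a p, D.phi_a_a p, H.dw, herm_zero_left D.u2, one_smul, zero_smul, add_zero]
  have ec : P (tens c w') = h12 • tens a w + h22 • tens c w := by
    rw [hC, D.phi_c_c p, D.phi_a_c p, H.dw, herm_zero_left D.u2, one_smul, zero_smul, zero_add]
  have s1 := hP.skew (tens a w') (tens a w')
  have s2 := hP.skew (tens c w') (tens c w')
  have s3 := hP.skew (tens a w') (tens c w')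
  simp only [ea, ec, D.uB.add_left, D.uB.smul_left, add_right D.uB, smul_right D.uB, D.B_tens, p.aa, p.cc,
    p.ac, p.ca, H.wd, H.dw, zero_mul, one_mul, mul_one, mul_zero, zero_add, add_zero] at s1 s2 s3
  exact ⟨eq_neg_of_add_eq_zero_right s1, eq_neg_of_add_eq_zero_right s2, eq_neg_of_add_eq_zero_right s3⟩

theorem coef_pure (hAS : AllScalar M f₁) (p : Pair f₁ a c) (H : Hyp f₂ w e w') (hP : Root σ B M P)
    (hC : Coef f₁ f₂ a c w P 0 0 h12 0) : h12 = 0 := by
  obtain ⟨g, hg, hgz⟩ := hP.mem 1 (map_one σ)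
  let A : V3 →ₗ[F] V3 :=
    { toFun := fun q => (h12 * f₂ q w) • w
      map_add' := fun x y => by rw [D.u2.add_left, mul_add, add_smul]
      map_smul' := fun t x => by rw [D.u2.smul_left, RingHom.id_apply, smul_smul, mul_left_comm] }
  obtain ⟨r, hr⟩ := hAS a (D.pair_ne p) p.aa A ⟨g, hg, fun z => by
    rw [hgz, one_smul, hC]
    show _ = z + tens a ((h12 * f₂ (phi f₁ a z) w) • w)
    rw [tens_smul_right]
    module⟩
  have e1 : (h12 * f₂ w w) • w = r • w := hr w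
  have e2 : (h12 * f₂ w' w) • w = r • w' := hr w'
  rw [H.ww, mul_zero, zero_smul, eq_comm, smul_eq_zero, or_iff_left (D.hyp_ne' H)] at e1
  rw [H.dw, mul_one, e1, zero_smul, smul_eq_zero, or_iff_left (D.hyp_ne' H)] at e2
  exact e2

theorem coef_conj (p : Pair f₁ a c) (H : Hyp f₂ w e w') (hP : Root σ B M P)
    (hC : Coef f₁ f₂ a c w P h11 h21 h12 h22) {r : F} (hr : σ r = r) :
    ∃ P' : V →ₗ[F] V, Root σ B M P' ∧ Coef f₁ f₂ a c w P'
      (h11 + r * ε * h21) h21 (h12 + r * ε * (h22 - h11) - r * ε * (r * ε) * h21) (h22 - r * ε * h21) := by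
  obtain ⟨g, hg, hgz⟩ := (D.root_PT p).mem r hr
  have hgi := D.elem_inv (D.root_PT p) hgz
  refine ⟨conjP g P, D.root_conj hP hg, fun z => ?_⟩
  have _ := H
  rw [conjP_apply, hgi, hC, hgz]
  simp only [D.PT_apply, D.phi_add, D.phi_smul, D.phi_a_a p, D.phi_a_c p, D.phi_c_a p, smul_zero, add_zero,
    zero_add, tens_add_right, tens_smul_right, D.u2.add_left, D.u2.smul_left]
  module

theorem coef_RW (p : Pair f₁ a c) (H : Hyp f₂ w e w') : Coef f₁ f₂ a c w (RW ε f₂ w) ε 0 0 ε := fun z => by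
  rw [D.RW_apply p H.ww, tens_add_left, tens_smul_left, tens_smul_left]
  module

theorem coef_tri (hAS : AllScalar M f₁) (p : Pair f₁ a c) (H : Hyp f₂ w e w') (hP : Root σ B M P)
    (hC : Coef f₁ f₂ a c w P h11 0 h12 h22) : h11 = h22 ∧ h12 = 0 := by
  obtain ⟨P', hP', hC'⟩ := D.coef_conj p H hP hC (r := 1) (map_one σ)
  have h1 : h11 = h22 := by
    have hd : Coef f₁ f₂ a c w (P' - P) 0 0 (ε * (h22 - h11)) 0 := fun z => by
      rw [LinearMap.sub_apply, hC', hC]
      module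
    have := D.coef_pure hAS p H (D.root_sub hP' hP (D.coef_mul p H hC' hC) (D.coef_mul p H hC hC')) hd
    exact (sub_eq_zero.1 ((mul_eq_zero.1 this).resolve_left D.he0)).symm
  refine ⟨h1, ?_⟩
  obtain ⟨-, -, s3⟩ := D.coef_skew p H hP hC
  have ht : σ (h11 / ε) = h11 / ε := by
    rw [← h1] at s3
    rw [map_div₀, s3, D.hσε, neg_div_neg_eq]
  have hR := D.root_smul (D.root_RW H.ww) ht
  have hCR : Coef f₁ f₂ a c w ((h11 / ε) • RW ε f₂ w) h11 0 0 h11 := fun z => by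
    rw [LinearMap.smul_apply, D.coef_RW p H z]
    have := D.he0
    match_scalars <;> field_simp <;> ring
  have hd : Coef f₁ f₂ a c w (P - (h11 / ε) • RW ε f₂ w) 0 0 h12 0 := fun z => by
    rw [LinearMap.sub_apply, hC, hCR, ← h1]
    module
  exact D.coef_pure hAS p H (D.root_sub hP hR (D.coef_mul p H hC hCR) (D.coef_mul p H hCR hC)) hd

theorem coef_scalar (hAS : AllScalar M f₁) (p : Pair f₁ a c) (H : Hyp f₂ w e w') (hP : Root σ B M P)
    (hC : Coef f₁ f₂ a c w P h11 h21 h12 h22) : h21 = 0 := by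
  have key : ∀ r : F, σ r = r →
      r * ε * (h22 - h11) - r * ε * (r * ε) * h21 = 0 := by
    intro r hr
    obtain ⟨P', hP', hC'⟩ := D.coef_conj p H hP hC hr
    have hd : Coef f₁ f₂ a c w (P' - P) (r * ε * h21) 0
        (r * ε * (h22 - h11) - r * ε * (r * ε) * h21) (-(r * ε * h21)) := fun z => by
      rw [LinearMap.sub_apply, hC', hC]
      module
    exact (D.coef_tri hAS p H (D.root_sub hP' hP (D.coef_mul p H hC' hC) (D.coef_mul p H hC hC')) hd).2
  obtain ⟨rq, hrq, hrq0, hrq1⟩ := D.hq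
  have h : rq * (rq - 1) * (ε * ε) * h21 = 0 := by
    linear_combination rq * key 1 (map_one σ) - key rq hrq
  exact (mul_eq_zero.1 h).resolve_left
    (mul_ne_zero (mul_ne_zero hrq0 (sub_ne_zero.2 hrq1)) (mul_ne_zero D.he0 D.he0))

theorem block_inv (hAS : AllScalar M f₁) {g : GL (Fin 2 × Fin 3) F} (hg : g ∈ M) {v : V3}
    (hvv : f₂ v v = 0) (p : Pair f₁ a c) (x : V3) :
    phi f₁ a (g⁻¹ ⋄ RW ε f₂ v (g ⋄ tens a x)) = 0 := by
  rcases eq_or_ne v 0 with rfl | hv
  · rw [D.RW_apply p hvv, tens_zero_right, smul_zero, Matrix.mulVec_zero, D.phi_zero]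
  obtain ⟨w₁, hw₁, hww₁, hline⟩ := D.range_line hAS hg hv hvv
  obtain ⟨e₁, w₁', H⟩ := D.exists_hyp hw₁ hww₁
  set P := conjP g⁻¹ (RW ε f₂ v) with hPdef
  have hP : Root σ B M P := D.root_conj (D.root_RW hvv) (M.inv_mem hg)
  have hPg : ∀ z, P z = g⁻¹ ⋄ RW ε f₂ v (g ⋄ z) := fun z => by rw [hPdef, conjP_apply, inv_inv]
  have hrange : ∀ z, ∃ u, P z = tens u w₁ := fun z => by
    obtain ⟨u, hu⟩ := hline (f₂ (phi f₁ c (g ⋄ z)) v • a + f₂ (phi f₁ a (g ⋄ z)) v • c)
    exact ⟨ε • u, by rw [hPg, D.RW_apply p hvv, Matrix.mulVec_smul, hu, tens_smul_left]⟩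
  have hkill : ∀ y, f₂ (phi f₁ c y) w₁ = 0 → f₂ (phi f₁ a y) w₁ = 0 → P y = 0 := by
    intro y h1 h2
    by_contra h0
    obtain ⟨z, hz⟩ := (D.uB.nondegenerate _ h0).1
    apply hz
    obtain ⟨u, hu⟩ := hrange z
    rw [D.uB.herm z, eq_neg_of_add_eq_zero_left (hP.skew y z), hu, D.expand p y, D.uB.add_left, D.B_tens,
      D.B_tens, h1, h2, mul_zero, mul_zero, add_zero, neg_zero, map_zero]
  obtain ⟨va, hva⟩ := hrange (tens a w₁')
  obtain ⟨vc, hvc⟩ := hrange (tens c w₁')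
  have hsplit : ∀ u, tens u w₁ = f₁ u c • tens a w₁ + f₁ u a • tens c w₁ := fun u => by
    conv_lhs => rw [D.split1 p u, tens_add_left, tens_smul_left, tens_smul_left]
  have hC : Coef f₁ f₂ a c w₁ P (f₁ va c) (f₁ va a) (f₁ vc c) (f₁ vc a) := by
    intro z
    rw [← hsplit, ← hsplit, ← hva, ← hvc, ← map_smul, ← map_smul, ← map_add, ← sub_eq_zero, ← map_sub]
    refine hkill _ ?_ ?_ <;>
      simp [D.phi_sub, D.phi_add, D.phi_smul, D.phi_a_a p, D.phi_a_c p, D.phi_c_a p, D.phi_c_c p,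
        form_sub_left (isLinearLeft_of_unitary D.u2), D.u2.smul_left, H.dw, herm_zero_left D.u2]
  have h21 := D.coef_scalar hAS p H hP hC
  rw [h21] at hC
  rw [← hPg, hC, D.phi_a_a p, herm_zero_left D.u2, zero_smul, zero_smul, add_zero, add_zero, smul_smul,
    D.phi_smul, D.phi_a_a p, smul_zero]

theorem mem_kron_of_allScalar (hAS : AllScalar M f₁) {g : GL (Fin 2 × Fin 3) F} (hg : g ∈ M) :
    g ∈ Cfsg.Geo.kroneckerSubgroup 2 3 F := by
  obtain ⟨a, c, p⟩ := D.exists_pair'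
  set W := LinearMap.ker (D.phiL a ∘ₗ gLin g⁻¹) with hWdef
  have hW : ∀ {z}, z ∈ W ↔ phi f₁ a (g⁻¹ ⋄ z) = 0 := LinearMap.mem_ker
  have hinv : ∀ z ∈ W, ∀ v, f₂ v v = 0 → RW ε f₂ v z ∈ W := by
    intro z hz v hv
    rw [hW] at hz ⊢
    have h := D.block_inv hAS hg hv p (phi f₁ c (g⁻¹ ⋄ z))
    rwa [← D.mem_block p hz, gl_mulVec_inv] at h
  have hspan := span_isotropic D.u2 (by rw [Fintype.card_fin]; norm_num : 2 ≤ Fintype.card (Fin 3))
  obtain ⟨v₀, hv₀⟩ : ∃ v : V3, v ≠ 0 := ⟨1, one_ne_zero⟩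
  set z := g ⋄ tens a v₀ with hzdef
  have hzW : z ∈ W := by rw [hW, hzdef, gl_inv_mulVec, D.phi_a_a p]
  have hz0 : z ≠ 0 := fun h => by
    have h' : tens a v₀ = 0 := gl_mulVec_injective g (h.trans (Matrix.mulVec_zero _).symm)
    have := congrArg (phi f₁ c) h'
    rw [D.phi_c_a p, D.phi_zero] at this
    exact hv₀ this
  obtain ⟨w₀, hw₀, u₀, hu₀, hu₀W⟩ : ∃ w₀ : V3, w₀ ≠ 0 ∧ ∃ u₀ : V2, u₀ ≠ 0 ∧ tens u₀ w₀ ∈ W := by
    by_contra hc
    push Not at hc
    have h : ∀ v, f₂ v v = 0 → f₂ (phi f₁ c z) v = 0 ∧ f₂ (phi f₁ a z) v = 0 := by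
      intro v hv
      rcases eq_or_ne v 0 with rfl | hv0
      · exact ⟨zero_right D.u2 _, zero_right D.u2 _⟩
      have h1 := hinv z hzW v hv
      rw [D.RW_apply p hv] at h1
      have h2 := W.smul_mem ε⁻¹ h1
      rw [inv_smul_smul₀ D.he0] at h2
      have h3 : f₂ (phi f₁ c z) v • a + f₂ (phi f₁ a z) v • c = 0 := by
        by_contra h0; exact hc v hv0 _ h0 h2
      have e1 := congrArg (fun x => f₁ x c) h3
      have e2 := congrArg (fun x => f₁ x a) h3
      simp only [D.u1.add_left, D.u1.smul_left, p.ac, p.cc, p.aa, p.ca, herm_zero_left D.u1, mul_one,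
        mul_zero, add_zero, zero_add] at e1 e2
      exact ⟨e1, e2⟩
    have hz' : ∀ y : V3, (∀ v, f₂ v v = 0 → f₂ y v = 0) → y = 0 := fun y hy => by
      refine D.eq_zero2 fun u => swap_eq_zero D.u2 ?_
      refine Submodule.span_induction (p := fun x _ => f₂ y x = 0) (fun x hx => hy x hx) (zero_right D.u2 y)
        (fun x x' _ _ h h' => by rw [add_right D.u2, h, h', add_zero])
        (fun t x _ h => by rw [smul_right D.u2, h, mul_zero]) (hspan ▸ Submodule.mem_top (x := u))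
    refine hz0 ?_
    rw [D.expand p z, hz' _ fun v hv => (h v hv).1, hz' _ fun v hv => (h v hv).2, tens_zero_right,
      tens_zero_right, add_zero]
  have hall : ∀ x, tens u₀ x ∈ W := by
    set S := W.comap (tensL u₀)
    rcases invariant_eq_top D.u2 (W := S) (by rw [Fintype.card_fin]; norm_num) D.he0 fun v hv x hx => by
        show tens u₀ (x + (ε * f₂ x v) • v) ∈ W
        rw [tens_add_right, tens_smul_right]
        refine W.add_mem hx ?_
        have := hinv _ (show tens u₀ x ∈ W from hx) v hv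
        rwa [D.RW_tens hv] at this
      with h | h
    · exact absurd ((Submodule.eq_bot_iff _).1 h w₀ hu₀W) hw₀
    · exact fun x => (h ▸ Submodule.mem_top (x := x) : x ∈ S)
  obtain ⟨e₀, he₀, he₀'⟩ := TensorFormMax.UnitSide.exists_aniso_of_lt D.u2 (![] : Fin 0 → V3) (by norm_num)
  have huu : f₁ u₀ u₀ = 0 := by
    have h1 := D.iso _ (M.inv_mem hg) (tens u₀ e₀) (tens u₀ e₀)
    rw [D.mem_block p (hW.1 (hall e₀)), D.B_tens, D.B_tens, p.aa, zero_mul, eq_comm, mul_eq_zero] at h1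
    exact h1.resolve_right he₀'
  obtain ⟨h, hh, hhk, t, -, hht⟩ := D.exists_move p hu₀ huu
  have hk := (D.stab_block hAS p (M.mul_mem (M.inv_mem hg) hh) fun x => by
    rw [gl_mul_mulVec, hht, Matrix.mulVec_smul, D.phi_smul, hW.1 (hall x), smul_zero]).1
  have : g = h * (g⁻¹ * h)⁻¹ := by rw [_root_.mul_inv_rev, inv_inv, mul_inv_cancel_left]
  rw [this]
  exact Subgroup.mul_mem _ hhk (Subgroup.inv_mem _ hk)

end Data

end Cfsg.Agent.Lib.UnitTwoThree
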