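import Cfsg.Agent.Lib.UnitTwoThree.Aniso

/-!
The scalar case of the anisotropic argument over the field with nine elements.
Owner: helper95.
-/

set_option autoImplicit false
set_option linter.unusedSectionVars false

namespace Cfsg.Agent.Lib.UnitTwoThree

open Matrix Kronecker
open Cfsg.Agent.Lib.Subspaces.Transvection Cfsg.Agent.Lib.Subspaces.FormVec
  Cfsg.Agent.Lib.Subspaces.UnitaryForm
  Cfsg.Agent.Lib.TensorMax.Block Cfsg.Agent.Lib.TensorMax.Lemmas Cfsg.Agent.Lib.TensorFormMax.Basic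
  Cfsg.Agent.Lib.TensorFormMax.UnitSide

variable {F : Type*} [Field F]

local notation "V2" => Fin 2 → F
local notation "V3" => Fin 3 → F
local notation "V" => Fin 2 × Fin 3 → F
local notation:80 g:81 " ⋄ " z:80 => Matrix.mulVec (Units.val g) z

/-- The shape of a root killing both copies of an anisotropic vector. -/
structure Shape (σ : F ≃+* F) (ε : F) (f₂ : V3 → V3 → F) (B : V → V → F)
    (M : Subgroup (GL (Fin 2 × Fin 3) F)) (a c : V2) (e : V3) (z : F) (P : V →ₗ[F] V)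
    (N : V3 →ₗ[F] V3) : Prop where
  root : Root σ B M P
  Pae : P (tens a e) = 0
  Pce : P (tens c e) = 0
  Ne : N e = 0
  perp : ∀ u, f₂ (N u) e = 0
  adj : ∀ u v, f₂ (N u) v = f₂ u (N v)
  Pa : ∀ u, f₂ u e = 0 → P (tens a u) = tens a (N u) + (z / ε) • tens c u
  Pc : ∀ u, f₂ u e = 0 → P (tens c u) = -(ε / z) • tens a (N (N u)) - tens c (N u)

namespace Data

variable {σ : F ≃+* F} {ε : F} {f₁ : (Fin 2 → F) → (Fin 2 → F) → F}
  {f₂ : (Fin 3 → F) → (Fin 3 → F) → F} {B : (Fin 2 × Fin 3 → F) → (Fin 2 × Fin 3 → F) → F}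
  {M : Subgroup (GL (Fin 2 × Fin 3) F)} (D : Data σ ε f₁ f₂ B M) [Finite F]
include D

/-- Over a field where every fixed non-zero scalar squares to one, three is zero. -/
theorem small_field (h1 : ∀ r : F, σ r = r → r ≠ 0 → r * r = 1) :
    (2 : F) ≠ 0 ∧ (3 : F) = 0 ∧ ε * ε = -1 := by
  obtain ⟨r, hr, hr0, hr1⟩ := D.hq
  have h2 : (2 : F) ≠ 0 := fun h2 => hr1 (by
    have h' : (r - 1) * (r - 1) = 0 := by linear_combination h1 r hr hr0 + (1 - r) * h2
    exact sub_eq_zero.1 (mul_self_eq_zero.1 h'))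
  have h3 : (3 : F) = 0 := by linear_combination h1 2 (map_ofNat σ 2) h2
  refine ⟨h2, h3, ?_⟩
  have h4 := h1 (ε * ε) (by rw [map_mul, D.hσε, neg_mul_neg]) (mul_ne_zero D.he0 D.he0)
  rcases mul_self_eq_one_iff.1 h4 with h5 | h5
  · exfalso
    have hσ : σ ε = ε := by
      rcases mul_self_eq_one_iff.1 h5 with h6 | h6 <;> simp [h6]
    exact mul_ne_zero h2 D.he0 (by linear_combination D.skew_ε - hσ)
  · exact h5

/-- The projection across an anisotropic vector. -/
def proj (e : V3) : V3 →ₗ[F] V3 where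
  toFun u := u - (f₂ u e / f₂ e e) • e
  map_add' u v := by rw [D.u2.add_left, add_div]; module
  map_smul' t u := by rw [D.u2.smul_left, RingHom.id_apply, mul_div_assoc]; module

theorem proj_apply (e u : V3) : D.proj e u = u - (f₂ u e / f₂ e e) • e := rfl

theorem proj_e {e : V3} (he : f₂ e e ≠ 0) : D.proj e e = 0 := by
  rw [D.proj_apply, div_self he, one_smul, sub_self]

theorem proj_of_perp {e u : V3} (hu : f₂ u e = 0) : D.proj e u = u := by
  rw [D.proj_apply, hu, zero_div, zero_smul, sub_zero]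

theorem proj_perp {e : V3} (he : f₂ e e ≠ 0) (u : V3) : f₂ (D.proj e u) e = 0 := by
  rw [D.proj_apply, form_sub_left (isLinearLeft_of_unitary D.u2), D.u2.smul_left, div_mul_cancel₀ _ he,
    sub_self]

theorem proj_adj (e u v : V3) : f₂ (D.proj e u) v = f₂ u (D.proj e v) := by
  rw [D.proj_apply, D.proj_apply, form_sub_left (isLinearLeft_of_unitary D.u2), D.u2.smul_left,
    sub_right D.u2, smul_right D.u2, map_div₀, self_fixed D.u2, ← D.u2.herm]
  ring

variable {a c : Fin 2 → F} {P : (Fin 2 × Fin 3 → F) →ₗ[F] (Fin 2 × Fin 3 → F)} {e : Fin 3 → F} {z : F}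
  {N : (Fin 3 → F) →ₗ[F] (Fin 3 → F)}

theorem Pce_zero (hAS : AllScalar M f₁) (p : Pair f₁ a c) (hP : Root σ B M P) (he : f₂ e e ≠ 0)
    (hPe : P (tens a e) = 0) (hz : z ≠ 0) (hQ : ∀ u, f₂ u e = 0 → D.Qmap a P u = z • u)
    (hR : ∀ x, phi f₁ a (P x) = 0 → P x = 0) (h2 : (2 : F) ≠ 0) : P (tens c e) = 0 := by
  have hzε : z / ε ≠ 0 := div_ne_zero hz D.he0
  obtain ⟨κ, hκ⟩ : ∃ κ : GL (Fin 3) F, Units.val κ = -qref f₂ e (-1) := by
    have hd : IsUnit (-qref f₂ e (-1)).det := by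
      rw [det_neg, qref_det D.u2 he]
      simp
    exact ⟨Matrix.GeneralLinearGroup.mkOfDetNeZero _ hd.ne_zero, rfl⟩
  have hκu : ∀ u, κ ⋄ u = -u + (2 * (f₂ u e / f₂ e e)) • e := fun u => by
    rw [hκ, Matrix.neg_mulVec, qref_mulVec D.u2]
    module
  set k := kronGL (1 : GL (Fin 2) F) κ with hk
  have hkM : k ∈ M := D.mem_side2 (fun x y => by
      rw [hκ, Matrix.neg_mulVec, Matrix.neg_mulVec, ← neg_one_smul F, ← neg_one_smul F (qref f₂ e (-1) *ᵥ y),
        D.u2.smul_left, smul_right D.u2, qref_isometry D.u2 he (by rw [map_neg, map_one]; ring), map_neg,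
        map_one]
      ring)
    (by
      rw [hκ, det_neg, qref_det D.u2 he, Fintype.card_fin]
      norm_num)
  have hκe : κ ⋄ e = e := by rw [hκu, div_self he]; module
  have hka : k ⋄ tens a e = tens a e := by rw [D.side2_tens, hκe]
  have hae : ∀ x : V, B (P x) (tens a e) = 0 := fun x => by
    have := hP.skew x (tens a e)
    rwa [hPe, zero_right D.uB, add_zero] at this
  have hPa : ∀ u, f₂ u e = 0 →
      P (tens a u) = tens a (phi f₁ c (P (tens a u))) + (z / ε) • tens c u := fun u hu => by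
    have h := hQ u hu
    rw [D.Qmap_apply] at h
    conv_lhs => rw [D.expand p (P (tens a u))]
    rw [← inv_smul_smul₀ D.he0 (phi f₁ a (P (tens a u))), h, smul_smul, tens_smul_right, div_eq_inv_mul]
  have hcomA : ∀ u, ∃ t : F, k ⋄ P (tens a u) = P (k ⋄ tens a u) + t • tens a e := by
    intro u
    obtain ⟨t, u₀, rfl, hu₀⟩ := D.perp_split he u
    rw [tens_add_right, tens_smul_right, map_add, map_smul, hPe, smul_zero, zero_add, Matrix.mulVec_add,
      Matrix.mulVec_smul, hka, map_add, map_smul, hPe, smul_zero, zero_add]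
    set m := phi f₁ c (P (tens a u₀)) with hm
    refine ⟨2 * (f₂ m e / f₂ e e), ?_⟩
    rw [D.side2_tens, hκu u₀, hu₀, zero_div, mul_zero, zero_smul, add_zero, hPa u₀ hu₀, ← hm,
      Matrix.mulVec_add, Matrix.mulVec_smul, D.side2_tens, D.side2_tens, hκu m, hκu u₀, hu₀]
    rw [show tens a (-u₀) = -tens a u₀ from map_neg (tensL a) _, map_neg, hPa u₀ hu₀, ← hm]
    simp only [zero_div, mul_zero, zero_smul, add_zero, tens_add_right, tens_smul_right]
    rw [show tens a (-m) = -tens a m from map_neg (tensL a) _,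
      show tens c (-u₀) = -tens c u₀ from map_neg (tensL c) _]
    module
  have hcomC : ∀ u, f₂ u e = 0 → ∃ t : F, k ⋄ P (tens c u) = P (k ⋄ tens c u) + t • tens a e := by
    intro u hu
    set m := phi f₁ c (P (tens a u)) with hm
    have hPc : P (tens c u) = -(ε / z) • P (tens a m) := by
      have h := congrArg P (hPa u hu)
      rw [hP.sq, map_add, map_smul, ← hm] at h
      rw [← inv_smul_smul₀ hzε (P (tens c u)), eq_neg_of_add_eq_zero_right h.symm, inv_div]
      module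
    obtain ⟨t, ht⟩ := hcomA m
    refine ⟨-(ε / z) * t, ?_⟩
    rw [hPc, Matrix.mulVec_smul, ht, D.side2_tens, D.side2_tens, hκu u, hu, zero_div, mul_zero, zero_smul,
      add_zero, show tens c (-u) = -tens c u from map_neg (tensL c) _, map_neg, hPc, hκu m, tens_add_right,
      tens_smul_right, map_add, map_smul, hPe, smul_zero, add_zero,
      show tens a (-m) = -tens a m from map_neg (tensL a) _, map_neg]
    module
  have hcom : ∀ y, B y (tens a e) = 0 → ∃ t : F, k ⋄ P y = P (k ⋄ y) + t • tens a e := by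
    intro y hy
    rw [D.B_phi] at hy
    obtain ⟨t1, h1⟩ := hcomA (phi f₁ c y)
    obtain ⟨t2, h2⟩ := hcomC (phi f₁ a y) hy
    refine ⟨t1 + t2, ?_⟩
    rw [D.expand p y, map_add, Matrix.mulVec_add, h1, h2, Matrix.mulVec_add, map_add]
    module
  obtain ⟨g, hg, hgz⟩ := hP.mem 1 (map_one σ)
  have hgi := D.elem_inv hP hgz
  set n := k * g * k⁻¹ * g⁻¹ with hn
  have hnM : n ∈ M := M.mul_mem (M.mul_mem (M.mul_mem hkM hg) (M.inv_mem hkM)) (M.inv_mem hg)
  have hn1 : ∀ y, B y (tens a e) = 0 → ∃ t : F, n ⋄ y = y + t • tens a e := by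
    intro y hy
    set y₁ := g⁻¹ ⋄ y with hy₁
    have h1 : B y₁ (tens a e) = 0 := by
      rw [hy₁, hgi, D.uB.add_left, D.uB.smul_left, hy, hae, mul_zero, add_zero]
    set y₂ := k⁻¹ ⋄ y₁
    have h2 : B y₂ (tens a e) = 0 := by rw [← D.iso_right hkM, hka]; exact h1
    obtain ⟨t, ht⟩ := hcom y₂ h2
    refine ⟨t, ?_⟩
    rw [gl_mulVec_inv] at ht
    have hPy : P y₁ = P y := by rw [hy₁, hgi, map_add, map_smul, hP.sq, smul_zero, add_zero]
    rw [hn, gl_mul_mulVec, gl_mul_mulVec, gl_mul_mulVec, hgz, Matrix.mulVec_add, Matrix.mulVec_smul, ht,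
      gl_mulVec_inv, hPy, hgi]
    module
  have hW : ∀ x y : V3, B (tens a x) (tens a y) = 0 := fun x y => by rw [D.B_tens, p.aa, zero_mul]
  obtain ⟨-, A, μ, r, -, -, hA, hAa, hAc⟩ := D.stab_block hAS p hnM fun u => by
    obtain ⟨t, ht⟩ := hn1 (tens a u) (hW _ _)
    rw [ht, D.phi_add, D.phi_smul, D.phi_a_a p, D.phi_a_a p, smul_zero, add_zero]
  have hAe : A ⋄ e = e := by
    have h : n ⋄ tens a e = tens a e := by
      have e1 : g⁻¹ ⋄ tens a e = tens a e := by rw [hgi, hPe, smul_zero, add_zero]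
      have e2 : k⁻¹ ⋄ tens a e = tens a e := by conv_lhs => rw [← hka, gl_inv_mulVec]
      rw [hn, gl_mul_mulVec, gl_mul_mulVec, gl_mul_mulVec, e1, e2, hgz, hPe, smul_zero, add_zero, hka]
    rw [← D.phi_c_a p (A ⋄ e), ← hAa, h, D.phi_c_a p]
  have hμ : μ = 1 := by
    have h := hA e e
    rw [hAe] at h
    exact (mul_eq_right₀ he).1 h.symm
  have hA1 : ∀ u, A ⋄ u = u := fun u => by
    obtain ⟨t, ht⟩ := hn1 (tens a u) (hW _ _)
    have h1 : A ⋄ u = u + t • e := by
      rw [← D.phi_c_a p (A ⋄ u), ← hAa, ht, D.phi_add, D.phi_smul, D.phi_c_a p, D.phi_c_a p]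
    have h := hA u e
    rw [hAe, hμ, one_mul, h1, D.u2.add_left, D.u2.smul_left] at h
    have ht0 : t * f₂ e e = 0 := by linear_combination h
    rw [h1, (mul_eq_zero.1 ht0).resolve_right he, zero_smul, add_zero]
  obtain ⟨u₁, hu₁, hu₁0⟩ := D.exists_perp he
  have hr : r = 0 := by
    obtain ⟨t, ht⟩ := hn1 (tens c u₁) (by rw [D.B_tens, p.ca, one_mul, hu₁])
    have h1 := hAc u₁
    rw [ht, hA1, hμ, inv_one, one_smul, add_right_inj] at h1
    have h2 := congrArg (phi f₁ c) h1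
    rw [D.phi_smul, D.phi_smul, D.phi_c_a p, D.phi_c_a p] at h2
    have h3 := congrArg (fun x => f₂ x e) h2
    simp only [D.u2.smul_left, hu₁, mul_zero, mul_eq_zero, he, or_false] at h3
    rw [h3, zero_smul, eq_comm, smul_eq_zero] at h2
    exact h2.resolve_right hu₁0
  have hn_one : n = 1 := gl_ext fun y => by
    rw [Units.val_one, one_mulVec]
    conv_lhs => rw [D.expand p y, Matrix.mulVec_add, hAa, hAc, hA1, hA1, hμ, hr, inv_one, one_smul, zero_smul,
      add_zero]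
    exact (D.expand p y).symm
  have hkg : k * g = g * k := by
    have h1 : n * g * k = k * g := by rw [hn]; group
    rw [hn_one, one_mul] at h1
    exact h1.symm
  have hkP : k ⋄ P (tens c e) = P (tens c e) := by
    have h : k ⋄ (g ⋄ tens c e) = g ⋄ (k ⋄ tens c e) := by rw [← gl_mul_mulVec, hkg, gl_mul_mulVec]
    rw [hgz, hgz, one_smul, one_smul, Matrix.mulVec_add, D.side2_tens, hκe, add_right_inj] at h
    exact h
  refine hR _ ?_
  set w₀ := phi f₁ a (P (tens c e)) with hw₀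
  have hwe : f₂ w₀ e = 0 := by rw [hw₀, ← D.B_phi]; exact hae _
  have hfix : κ ⋄ w₀ = w₀ := by rw [hw₀, ← D.phi_side2, ← hk, hkP]
  rw [hκu, hwe, zero_div, mul_zero, zero_smul, add_zero] at hfix
  have h4 : (2 : F) • w₀ = 0 := by linear_combination (norm := module) -hfix
  exact (smul_eq_zero.1 h4).resolve_left h2

theorem shape_of (p : Pair f₁ a c) (hP : Root σ B M P) (he : f₂ e e ≠ 0) (hPe : P (tens a e) = 0)
    (hPce : P (tens c e) = 0) (hz : z ≠ 0) (hQ : ∀ u, f₂ u e = 0 → D.Qmap a P u = z • u) :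
    Shape σ ε f₂ B M a c e z P (D.phiL c ∘ₗ P ∘ₗ tensL a) := by
  have hzε : z / ε ≠ 0 := div_ne_zero hz D.he0
  set N := D.phiL c ∘ₗ P ∘ₗ tensL a
  have hN : ∀ u, N u = phi f₁ c (P (tens a u)) := fun u => rfl
  have hNe : N e = 0 := by rw [hN, hPe, D.phi_zero]
  have hperp : ∀ u, f₂ (N u) e = 0 := fun u => by
    rw [hN, ← D.B_phi]
    have := hP.skew (tens a u) (tens c e)
    rwa [hPce, zero_right D.uB, add_zero] at this
  have hPa : ∀ u, f₂ u e = 0 → P (tens a u) = tens a (N u) + (z / ε) • tens c u := fun u hu => by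
    have h := hQ u hu
    rw [D.Qmap_apply] at h
    conv_lhs => rw [D.expand p (P (tens a u))]
    rw [← inv_smul_smul₀ D.he0 (phi f₁ a (P (tens a u))), h, smul_smul, tens_smul_right, div_eq_inv_mul, hN]
  have hPc : ∀ u, f₂ u e = 0 → P (tens c u) = -(ε / z) • tens a (N (N u)) - tens c (N u) := fun u hu => by
    have h := congrArg P (hPa u hu)
    rw [hP.sq, map_add, map_smul, hPa _ (hperp u)] at h
    rw [← inv_smul_smul₀ hzε (P (tens c u)), eq_neg_of_add_eq_zero_right h.symm, inv_div, smul_neg, smul_add,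
      smul_smul, div_mul_div_cancel₀' D.he0]
    rw [div_self hz]
    module
  refine ⟨hP, hPe, hPce, hNe, hperp, fun u v => ?_, hPa, hPc⟩
  obtain ⟨s, u₀, rfl, hu₀⟩ := D.perp_split he u
  obtain ⟨t, v₀, rfl, hv₀⟩ := D.perp_split he v
  have key : f₂ (N u₀) v₀ = f₂ u₀ (N v₀) := by
    have h := hP.skew (tens a u₀) (tens c v₀)
    rw [D.B_phi, ← hN, D.B_phi', hPc v₀ hv₀, D.phi_sub, D.phi_smul, D.phi_a_a p, D.phi_a_c p, smul_zero,
      zero_sub, ← neg_one_smul F, smul_right D.u2, map_neg, map_one] at h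
    linear_combination h
  rw [map_add, map_smul, hNe, smul_zero, zero_add, map_add, map_smul, hNe, smul_zero, zero_add,
    add_right D.u2, smul_right D.u2, hperp, D.u2.add_left, D.u2.smul_left, swap_eq_zero D.u2 (hperp v₀), key]
  ring

theorem shift (p : Pair f₁ a c) (he : f₂ e e ≠ 0) (hz : z ≠ 0) (hS : Shape σ ε f₂ B M a c e z P N) {r : F}
    (hr : σ r = r) (hσz : σ z = z) :
    ∃ P' : V →ₗ[F] V, Shape σ ε f₂ B M a c e z P' (N + (r * z) • D.proj e) := by
  obtain ⟨g, hg, hgz⟩ := (D.root_PT p).mem r hr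
  have hgi := D.elem_inv (D.root_PT p) hgz
  set N' := N + (r * z) • D.proj e with hN'
  have hN'a : ∀ u, f₂ u e = 0 → N' u = N u + (r * z) • u := fun u hu => by
    rw [hN', LinearMap.add_apply, LinearMap.smul_apply, D.proj_of_perp hu]
  have hga : ∀ x, g⁻¹ ⋄ tens a x = tens a x := fun x => by
    rw [hgi, D.PT_apply, D.phi_a_a p, tens_zero_right, smul_zero, smul_zero, add_zero]
  have hgc : ∀ x, g⁻¹ ⋄ tens c x = tens c x + (-r * ε) • tens a x := fun x => by
    rw [hgi, D.PT_apply, D.phi_a_c p, smul_smul]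
  have hg' : ∀ x y, g ⋄ (tens a x + tens c y) = tens a (x + (r * ε) • y) + tens c y := fun x y => by
    rw [hgz, D.PT_apply, D.phi_add, D.phi_a_a p, D.phi_a_c p, zero_add, tens_add_right, tens_smul_right]
    module
  refine ⟨conjP g P, D.root_conj hS.root hg, ?_, ?_, ?_, ?_, ?_, ?_, ?_⟩
  · rw [conjP_apply, hga, hS.Pae, Matrix.mulVec_zero]
  · rw [conjP_apply, hgc, map_add, map_smul, hS.Pce, hS.Pae, smul_zero, add_zero, Matrix.mulVec_zero]
  · rw [hN', LinearMap.add_apply, LinearMap.smul_apply, hS.Ne, D.proj_e he, smul_zero, add_zero]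
  · intro u
    rw [hN', LinearMap.add_apply, LinearMap.smul_apply, D.u2.add_left, D.u2.smul_left, hS.perp,
      D.proj_perp he, mul_zero, add_zero]
  · intro u v
    simp only [hN', LinearMap.add_apply, LinearMap.smul_apply, D.u2.add_left, D.u2.smul_left, add_right D.u2,
      smul_right D.u2, hS.adj, D.proj_adj, map_mul, hr, hσz]
  · intro u hu
    rw [conjP_apply, hga, hS.Pa u hu, ← tens_smul_right, hg', hN'a u hu, tens_smul_right]
    congr 1
    congr 1
    rw [smul_smul]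
    have := D.he0
    field_simp
  · intro u hu
    rw [conjP_apply, hgc, map_add, map_smul, hS.Pa u hu, hS.Pc u hu, hN'a u hu, hN'a (N u + (r * z) • u)
      (by rw [D.u2.add_left, D.u2.smul_left, hS.perp, hu, mul_zero, add_zero]), map_add, map_smul]
    have h0 : -(ε / z) • tens a (N (N u)) - tens c (N u) + (-r * ε) • (tens a (N u) + (z / ε) • tens c u) =
        tens a (-(ε / z) • N (N u) + (-r * ε) • N u) + tens c (-(N u) + (-r * z) • u) := by
      simp only [tens_add_right, tens_smul_right]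
      rw [show tens c (-(N u)) = -tens c (N u) from map_neg (tensL c) _]
      have := D.he0
      match_scalars <;> field_simp
    rw [h0, hg']
    simp only [tens_add_right, tens_smul_right]
    rw [show tens a (-(N u)) = -tens a (N u) from map_neg (tensL a) _,
      show tens c (-(N u)) = -tens c (N u) from map_neg (tensL c) _]
    match_scalars <;> field_simp <;> ring

theorem three_scalar (hAS : AllScalar M f₁) (p : Pair f₁ a c) (he : f₂ e e ≠ 0) (hz : z ≠ 0)
    (hS : Shape σ ε f₂ B M a c e z P N) (h0 : ∀ u, f₂ u e = 0 → N u = 0) : False := by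
  obtain ⟨g, hg, hgz⟩ := hS.root.mem 1 (map_one σ)
  have hP : P = (z / ε) • (tensL c ∘ₗ D.proj e ∘ₗ D.phiL c) := by
    refine D.ext_pair p (fun x => ?_) (fun x => ?_) <;>
      simp only [LinearMap.smul_apply, LinearMap.comp_apply, tensL_apply, D.phiL_apply] <;>
      obtain ⟨t, u₀, rfl, hu₀⟩ := D.perp_split he x <;>
      rw [tens_add_right, tens_smul_right, map_add, map_smul]
    · rw [hS.Pae, hS.Pa u₀ hu₀, h0 u₀ hu₀, tens_zero_right, smul_zero, zero_add, zero_add, D.phi_add,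
        D.phi_smul, D.phi_c_a p, D.phi_c_a p, map_add, map_smul, D.proj_e he, D.proj_of_perp hu₀, smul_zero,
        zero_add]
    · rw [hS.Pce, hS.Pc u₀ hu₀, h0 u₀ hu₀, map_zero, tens_zero_right, tens_zero_right, smul_zero, smul_zero,
        sub_zero, zero_add, D.phi_add, D.phi_smul, D.phi_c_c p, D.phi_c_c p, smul_zero, add_zero, map_zero,
        tens_zero_right, smul_zero]
  obtain ⟨r, hr⟩ := hAS c (D.pair_ne (D.pair_swap p)) p.cc ((z / ε) • D.proj e) ⟨g, hg, fun y => by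
    rw [hgz, one_smul, hP]
    simp only [LinearMap.smul_apply, LinearMap.comp_apply, tensL_apply, D.phiL_apply, tens_smul_right]⟩
  have h1 := hr e
  rw [LinearMap.smul_apply, D.proj_e he, smul_zero, eq_comm, smul_eq_zero] at h1
  have hr0 : r = 0 := h1.resolve_right fun h => he (by rw [h, herm_zero_left D.u2])
  obtain ⟨u, hu, hu0⟩ := D.exists_perp he
  have h3 := hr u
  rw [LinearMap.smul_apply, D.proj_of_perp hu, hr0, zero_smul, smul_eq_zero] at h3
  exact hu0 (h3.resolve_left (div_ne_zero hz D.he0))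

theorem three_generic (hAS : AllScalar M f₁) (p : Pair f₁ a c) (he : f₂ e e ≠ 0) (hz : z ≠ 0)
    (hε : ε * ε = -1) (hS : Shape σ ε f₂ B M a c e z P N) {τ δ x : F}
    (hch : ∀ u, f₂ u e = 0 → N (N u) = τ • (N u) - δ • u)
    (hNn : ∀ t : F, ∃ u, f₂ u e = 0 ∧ N u ≠ t • u) (hx1 : τ - 2 * x ≠ 0) (hx2 : x * x - τ * x + δ ≠ 0)
    (hσz : σ z = z) (hσx : σ x = x) : False := by
  obtain ⟨P₁, hS₁⟩ := D.shift p he hz hS (r := (z - x) / z) (by rw [map_div₀, map_sub, hσz, hσx]) hσz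
  rw [div_mul_cancel₀ _ hz] at hS₁
  set N₁ := N + (z - x) • D.proj e with hN₁
  have hN₁a : ∀ u, f₂ u e = 0 → N₁ u = N u + (z - x) • u := fun u hu => by
    rw [hN₁, LinearMap.add_apply, LinearMap.smul_apply, D.proj_of_perp hu]
  obtain ⟨g, hg, hgz⟩ := (D.root_PT (D.pair_swap p)).mem 1 (map_one σ)
  have hgi := D.elem_inv (D.root_PT (D.pair_swap p)) hgz
  set P₂ := conjP g P₁ with hP₂
  have hgiA : ∀ u, g⁻¹ ⋄ tens a u = tens a u + (-ε) • tens c u := fun u => by
    rw [hgi, D.PT_apply, D.phi_c_a p, smul_smul, neg_one_mul]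
  have hP₂e : P₂ (tens a e) = 0 := by
    rw [hP₂, conjP_apply, hgiA, map_add, map_smul, hS₁.Pae, hS₁.Pce, smul_zero, add_zero, Matrix.mulVec_zero]
  have hQ2 : ∀ u, f₂ u e = 0 →
      D.Qmap a P₂ u = z⁻¹ • ((τ - 2 * x) • N u + (x * x - δ) • u) := by
    intro u hu
    have hNu : f₂ (N u + (z - x) • u) e = 0 := by
      rw [D.u2.add_left, D.u2.smul_left, hS.perp, hu, mul_zero, add_zero]
    rw [D.Qmap_apply, hP₂, conjP_apply, hgiA, map_add, map_smul, hS₁.Pa u hu, hS₁.Pc u hu, hN₁a u hu,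
      hN₁a _ hNu, hgz, D.PT_apply]
    simp only [D.phi_add, D.phi_sub, D.phi_smul, D.phi_a_a p, D.phi_a_c p, D.phi_c_a p, D.phi_c_c p,
      map_add, map_smul, hch u hu, smul_zero, add_zero, zero_add, sub_zero, zero_sub, one_smul]
    have := D.he0
    match_scalars
    all_goals field_simp
    all_goals grind
  refine D.nonscalar_false hAS p (D.root_conj hS₁.root hg) he hP₂e (fun u hu h0 => ?_) fun t => ?_
  · rw [← hP₂, hQ2 u hu, smul_eq_zero, or_iff_right (inv_ne_zero hz)] at h0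
    have hev : ∀ y, f₂ y e = 0 → N y = x • y → y = 0 := by
      intro y hy hNy
      have h := hch y hy
      rw [hNy, map_smul, hNy] at h
      have h' : (x * x - τ * x + δ) • y = 0 := by linear_combination (norm := module) h
      exact (smul_eq_zero.1 h').resolve_left hx2
    have hy : f₂ (N u - x • u) e = 0 := by
      rw [form_sub_left (isLinearLeft_of_unitary D.u2), D.u2.smul_left, hS.perp, hu, mul_zero, sub_zero]
    have h1 : N u - x • u = 0 := hev _ hy (by
      rw [map_sub, map_smul, hch u hu]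
      linear_combination (norm := module) h0)
    exact hev u hu (sub_eq_zero.1 h1)
  · obtain ⟨u, hu, hne⟩ := hNn ((t * z - (x * x - δ)) / (τ - 2 * x))
    refine ⟨u, hu, fun h => hne ?_⟩
    rw [← hP₂, hQ2 u hu, inv_smul_eq_iff₀ hz] at h
    have h' : (τ - 2 * x) • N u = (t * z - (x * x - δ)) • u := by linear_combination (norm := module) h
    rw [← inv_smul_smul₀ hx1 (N u), h', smul_smul, div_eq_inv_mul]

set_option maxHeartbeats 1600000 in
theorem three_special (hAS : AllScalar M f₁) (p : Pair f₁ a c) (he : f₂ e e ≠ 0) (hz : z ≠ 0)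
    (h2 : (2 : F) ≠ 0) (h3 : (3 : F) = 0) (hε : ε * ε = -1) (hσz : σ z = z) (hz1 : z * z = 1)
    (hS : Shape σ ε f₂ B M a c e z P N) (hG : ∀ u, f₂ u e = 0 → N (N u) = u)
    (hNn : ∀ t : F, ∃ u, f₂ u e = 0 ∧ N u ≠ t • u) : False := by
  have hl := isLinearLeft_of_unitary D.u2
  obtain ⟨v, hv, hvn⟩ := hNn (-1)
  obtain ⟨v', hv', hvn'⟩ := hNn 1
  set u₁ := v + N v with hu₁
  set u₂ := v' - N v' with hu₂
  have hu₁e : f₂ u₁ e = 0 := by rw [hu₁, D.u2.add_left, hv, hS.perp, add_zero]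
  have hu₂e : f₂ u₂ e = 0 := by rw [hu₂, form_sub_left hl, hv', hS.perp, sub_zero]
  have hN₁ : N u₁ = u₁ := by rw [hu₁, map_add, hG v hv, add_comm]
  have hN₂ : N u₂ = -u₂ := by rw [hu₂, map_sub, hG v' hv', neg_sub]
  have h₁0 : u₁ ≠ 0 := fun h => hvn (by rw [neg_one_smul]; exact eq_neg_of_add_eq_zero_right h)
  have h₂0 : u₂ ≠ 0 := fun h => hvn' (by rw [one_smul]; exact (sub_eq_zero.1 h).symm)
  have h12 : f₂ u₁ u₂ = 0 := by
    have h := hS.adj u₁ u₂
    rw [hN₁, hN₂, ← neg_one_smul F u₂, smul_right D.u2, map_neg, map_one] at h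
    exact (mul_eq_zero.1 (show 2 * f₂ u₁ u₂ = 0 by linear_combination h)).resolve_left h2
  have h21 : f₂ u₂ u₁ = 0 := swap_eq_zero D.u2 h12
  have heu₁ : f₂ e u₁ = 0 := swap_eq_zero D.u2 hu₁e
  have heu₂ : f₂ e u₂ = 0 := swap_eq_zero D.u2 hu₂e
  have htop : Submodule.span F (Set.range ![u₁, u₂, e]) = ⊤ := by
    refine LinearIndependent.span_eq_top_of_card_eq_finrank ?_
      (by rw [Fintype.card_fin, Module.finrank_fin_fun])
    rw [Fintype.linearIndependent_iff]
    intro co hco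
    simp only [Fin.sum_univ_three, Matrix.cons_val_zero, Matrix.cons_val_one, Matrix.cons_val_two,
      Matrix.tail_cons, Matrix.head_cons] at hco
    have h := congrArg (fun x => f₂ x e) hco
    simp only [D.u2.add_left, D.u2.smul_left, hu₁e, hu₂e, herm_zero_left D.u2, mul_zero, zero_add,
      mul_eq_zero, he, or_false] at h
    rw [h, zero_smul, add_zero] at hco
    have hN := congrArg N hco
    rw [map_add, map_smul, map_smul, hN₁, hN₂, map_zero] at hN
    have e1 : (2 * co 0) • u₁ = 0 := by linear_combination (norm := module) hco + hN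
    have e2 : (2 * co 1) • u₂ = 0 := by linear_combination (norm := module) hco - hN
    intro i
    fin_cases i
    · simpa [h2, h₁0] using e1
    · simpa [h2, h₂0] using e2
    · exact h
  have hdec : ∀ x, ∃ α β γ : F, x = α • u₁ + β • u₂ + γ • e := fun x => by
    obtain ⟨co, hco⟩ := (Submodule.mem_span_range_iff_exists_fun F).1 (htop ▸ Submodule.mem_top (x := x))
    simp only [Fin.sum_univ_three, Matrix.cons_val_zero, Matrix.cons_val_one, Matrix.cons_val_two,
      Matrix.tail_cons, Matrix.head_cons] at hco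
    exact ⟨_, _, _, hco.symm⟩
  set h₁ := f₂ u₁ u₁ with hh₁
  set h₂ := f₂ u₂ u₂ with hh₂
  have hh₁0 : h₁ ≠ 0 := fun h => h₁0 (D.eq_zero2 fun x => by
    obtain ⟨α, β, γ, rfl⟩ := hdec x
    simp [D.u2.add_left, D.u2.smul_left, ← hh₁, h, h21, heu₁])
  have hh₂0 : h₂ ≠ 0 := fun h => h₂0 (D.eq_zero2 fun x => by
    obtain ⟨α, β, γ, rfl⟩ := hdec x
    simp [D.u2.add_left, D.u2.smul_left, ← hh₂, h, h12, heu₂])
  have hσh₁ : σ h₁ = h₁ := self_fixed D.u2 u₁
  have hσh₂ : σ h₂ = h₂ := self_fixed D.u2 u₂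
  obtain ⟨k, hk⟩ := exists_norm D.u2 (r := h₁ / h₂) (by rw [map_div₀, hσh₁, hσh₂])
  have hk0 : k ≠ 0 := fun h => div_ne_zero hh₁0 hh₂0 (by rw [← hk, h, zero_mul])
  have hkh : k * σ k * h₂ = h₁ := by rw [hk, div_mul_cancel₀ _ hh₂0]
  have hσk : σ k = h₁ / (k * h₂) := by rw [eq_div_iff (mul_ne_zero hk0 hh₂0), ← hkh]; ring
  set w := u₁ + k • u₂ with hw
  have hwe : f₂ w e = 0 := by rw [hw, D.u2.add_left, D.u2.smul_left, hu₁e, hu₂e, mul_zero, add_zero]
  have hww : f₂ w w = 2 * h₁ := by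
    rw [hw, expand_add_smul D.u2, h21, mul_zero, map_zero, ← hh₁, ← hh₂, hkh]; ring
  have hww0 : f₂ w w ≠ 0 := by rw [hww]; exact mul_ne_zero h2 hh₁0
  have hεn : ε * σ ε = 1 := by rw [D.hσε]; linear_combination -hε
  have hεn' : σ ε * σ (σ ε) = 1 := by rw [D.sigma_sigma, mul_comm]; exact hεn
  obtain ⟨κ, hκ⟩ : ∃ κ : GL (Fin 3) F, Units.val κ = qref f₂ w ε * qref f₂ e (σ ε) := by
    have hd : (qref f₂ w ε * qref f₂ e (σ ε)).det ≠ 0 := by
      rw [det_mul, qref_det D.u2 hww0, qref_det D.u2 he, hεn]; exact one_ne_zero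
    exact ⟨Matrix.GeneralLinearGroup.mkOfDetNeZero _ hd, rfl⟩
  have hκiso : ∀ x y, f₂ (κ ⋄ x) (κ ⋄ y) = f₂ x y := fun x y => by
    rw [hκ, ← Matrix.mulVec_mulVec, ← Matrix.mulVec_mulVec, qref_isometry D.u2 hww0 hεn,
      qref_isometry D.u2 he hεn']
  set K := kronGL (1 : GL (Fin 2) F) κ
  have hKM : K ∈ M := D.mem_side2 hκiso (by rw [hκ, det_mul, qref_det D.u2 hww0, qref_det D.u2 he, hεn])
  have hκe : κ ⋄ e = σ ε • e := by
    rw [hκ, ← Matrix.mulVec_mulVec, qref_mulVec D.u2 e, div_mul_cancel₀ _ he,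
      show e + (σ ε - 1) • e = σ ε • e by module, qref_mulVec D.u2, D.u2.smul_left, swap_eq_zero D.u2 hwe]
    simp
  have hκu : ∀ u, f₂ u e = 0 → κ ⋄ u = u + ((ε - 1) / (2 * h₁) * f₂ u w) • w := fun u hu => by
    rw [hκ, ← Matrix.mulVec_mulVec, qref_mulVec D.u2 e, hu, mul_zero, zero_smul, add_zero, qref_mulVec D.u2,
      hww]
  have hκ₁ : κ ⋄ u₁ = ((1 + ε) / 2) • u₁ + ((ε - 1) * k / 2) • u₂ := by
    rw [hκu u₁ hu₁e, hw, add_right D.u2, smul_right D.u2, h12, mul_zero, add_zero, ← hh₁]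
    match_scalars <;> field_simp <;> ring
  have hκ₂ : κ ⋄ u₂ = ((ε - 1) / (2 * k)) • u₁ + ((1 + ε) / 2) • u₂ := by
    rw [hκu u₂ hu₂e, hw, add_right D.u2, smul_right D.u2, h21, zero_add, ← hh₂, hσk]
    match_scalars <;> field_simp <;> ring
  set P₂ := conjP K P with hP₂
  have hKi : ∀ u x, K⁻¹ ⋄ tens u (κ ⋄ x) = tens u x := fun u x => by
    rw [← D.side2_tens κ u x, gl_inv_mulVec]
  have hP₂e : P₂ (tens a e) = 0 := by
    have h : tens a e = (σ ε)⁻¹ • tens a (κ ⋄ e) := by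
      rw [hκe, tens_smul_right, inv_smul_smul₀ ((map_ne_zero σ).2 D.he0)]
    rw [hP₂, conjP_apply, h, Matrix.mulVec_smul, hKi, map_smul, hS.Pae, smul_zero, Matrix.mulVec_zero]
  have hP₂κ : ∀ u, f₂ u e = 0 →
      P₂ (tens a (κ ⋄ u)) = tens a (κ ⋄ N u) + (z / ε) • tens c (κ ⋄ u) := fun u hu => by
    rw [hP₂, conjP_apply, hKi, hS.Pa u hu, Matrix.mulVec_add, Matrix.mulVec_smul, D.side2_tens, D.side2_tens]
  have hneg : ∀ x : V3, κ ⋄ (-x) = -(κ ⋄ x) := fun x => Matrix.mulVec_neg _ _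
  have hP₂₁ : P₂ (tens a u₁) = tens a ((ε * k) • u₂) + (z / ε) • tens c u₁ := by
    have e1 : u₁ = ((1 + ε) / (2 * ε)) • (κ ⋄ u₁) + (-((ε - 1) * k / (2 * ε))) • (κ ⋄ u₂) := by
      rw [hκ₁, hκ₂]
      have := D.he0
      match_scalars
      all_goals field_simp
      all_goals grind
    conv_lhs => rw [e1, tens_add_right, tens_smul_right, tens_smul_right, map_add, map_smul, map_smul,
      hP₂κ _ hu₁e, hP₂κ _ hu₂e, hN₁, hN₂, hneg, hκ₁, hκ₂]
    simp only [tens_add_right, tens_smul_right, ← neg_one_smul F ((_ : F) • u₁ + (_ : F) • u₂)]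
    have := D.he0
    match_scalars
    all_goals field_simp
    all_goals grind
  have hP₂₂ : P₂ (tens a u₂) = tens a (-(ε / k) • u₁) + (z / ε) • tens c u₂ := by
    have e1 : u₂ = (-((ε - 1) / (2 * k * ε))) • (κ ⋄ u₁) + ((1 + ε) / (2 * ε)) • (κ ⋄ u₂) := by
      rw [hκ₁, hκ₂]
      have := D.he0
      match_scalars
      all_goals field_simp
      all_goals grind
    conv_lhs => rw [e1, tens_add_right, tens_smul_right, tens_smul_right, map_add, map_smul, map_smul,
      hP₂κ _ hu₁e, hP₂κ _ hu₂e, hN₁, hN₂, hneg, hκ₁, hκ₂]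
    simp only [tens_add_right, tens_smul_right, ← neg_one_smul F ((_ : F) • u₁ + (_ : F) • u₂)]
    have := D.he0
    match_scalars
    all_goals field_simp
    all_goals grind
  obtain ⟨g1, hg1, hg1z⟩ := hS.root.mem (-1) (by rw [map_neg, map_one])
  obtain ⟨g2, hg2, hg2z⟩ := (D.root_PT p).mem z hσz
  obtain ⟨g3, hg3, hg3z⟩ := (D.root_conj hS.root hKM).mem 1 (map_one σ)
  set g := g1 * g2 * g3 with hg
  have hgM : g ∈ M := M.mul_mem (M.mul_mem hg1 hg2) hg3
  have hΦ : ∀ u u', f₂ u e = 0 → f₂ u' e = 0 → P₂ (tens a u) = tens a u' + (z / ε) • tens c u →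
      phi f₁ a (g ⋄ tens a u) = -(z / ε) • (u + u' - N u) := by
    intro u u' hu hu' h
    rw [hg, gl_mul_mulVec, gl_mul_mulVec, hg3z, ← hP₂, h, one_smul, hg2z, D.PT_apply, hg1z]
    simp only [D.phi_add, D.phi_smul, D.phi_a_a p, D.phi_a_c p, smul_zero, zero_add, add_zero, map_add,
      map_smul, tens_smul_right, smul_smul]
    rw [hS.Pa u hu, hS.Pa u' hu', hS.Pc u hu]
    simp only [D.phi_add, D.phi_sub, D.phi_smul, D.phi_a_a p, D.phi_a_c p, smul_zero, zero_add, add_zero,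
      zero_sub]
    have := D.he0
    match_scalars
    all_goals field_simp
    all_goals grind
  have hge : g ⋄ tens a e = tens a e := by
    rw [hg, gl_mul_mulVec, gl_mul_mulVec, hg3z, ← hP₂, hP₂e, smul_zero, add_zero, hg2z, D.PT_apply,
      D.phi_a_a p, tens_zero_right, smul_zero, smul_zero, add_zero, hg1z, hS.Pae, smul_zero, add_zero]
  have Φ₁ : phi f₁ a (g ⋄ tens a u₁) = (-z * k) • u₂ := by
    rw [hΦ u₁ _ hu₁e (by rw [D.u2.smul_left, hu₂e, mul_zero]) hP₂₁, hN₁]
    have := D.he0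
    match_scalars
    all_goals field_simp
    all_goals grind
  have Φ₂ : phi f₁ a (g ⋄ tens a u₂) = (z / k) • u₁ + (-z * ε) • u₂ := by
    rw [hΦ u₂ _ hu₂e (by rw [D.u2.smul_left, hu₁e, mul_zero]) hP₂₂, hN₂]
    have := D.he0
    match_scalars
    all_goals field_simp
    all_goals grind
  have hext : ∀ {x y : V3}, f₂ x u₁ = f₂ y u₁ → f₂ x u₂ = f₂ y u₂ → f₂ x e = f₂ y e → x = y := by
    intro x y e1 e2 e3
    refine sub_eq_zero.1 (D.eq_zero2 fun u => swap_eq_zero D.u2 ?_)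
    obtain ⟨α, β, γ, rfl⟩ := hdec u
    rw [add_right D.u2, add_right D.u2, smul_right D.u2, smul_right D.u2, smul_right D.u2, form_sub_left hl,
      form_sub_left hl, form_sub_left hl, e1, e2, e3]
    ring
  have hy : ∀ u v, f₂ (phi f₁ a (g⁻¹ ⋄ tens a u)) v = f₂ u (phi f₁ a (g ⋄ tens a v)) := fun u v => by
    rw [← D.B_phi, ← D.B_phi', D.iso_right hgM]
  have y₁ : phi f₁ a (g⁻¹ ⋄ tens a u₁) = (z * k) • u₂ := by
    refine hext ?_ ?_ ?_ <;>
      rw [hy] <;> simp only [Φ₁, Φ₂, hge, D.phi_a_a p, zero_right D.u2, add_right D.u2, smul_right D.u2,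
        D.u2.smul_left, h12, h21, hu₂e, ← hh₁, ← hh₂, map_mul, map_neg, map_div₀, hσz, hσk, D.hσε, mul_zero,
        add_zero]
    field_simp
  have y₂ : phi f₁ a (g⁻¹ ⋄ tens a u₂) = (-(z / k)) • u₁ + (z * ε) • u₂ := by
    refine hext ?_ ?_ ?_ <;>
      rw [hy] <;> simp only [Φ₁, Φ₂, hge, D.phi_a_a p, zero_right D.u2, add_right D.u2, smul_right D.u2,
        D.u2.add_left, D.u2.smul_left, h12, h21, hu₁e, hu₂e, ← hh₁, ← hh₂, map_mul, map_neg, map_div₀, hσz,
        hσk, D.hσε, mul_zero, add_zero, zero_add]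
    · field_simp
    · ring
  set P₃ := conjP g (D.PT a) with hP₃
  have hgie : g⁻¹ ⋄ tens a e = tens a e := by conv_lhs => rw [← hge, gl_inv_mulVec]
  have hP₃e : P₃ (tens a e) = 0 := by
    rw [hP₃, conjP_apply, hgie, D.PT_apply, D.phi_a_a p, tens_zero_right, smul_zero, Matrix.mulVec_zero]
  have hQ3 : ∀ u, D.Qmap a P₃ u = (-1 : F) • phi f₁ a (g ⋄ tens a (phi f₁ a (g⁻¹ ⋄ tens a u))) := fun u => by
    rw [D.Qmap_apply, hP₃, conjP_apply, D.PT_apply, Matrix.mulVec_smul, D.phi_smul, smul_smul, hε]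
  have q₁ : D.Qmap a P₃ u₁ = (-1 : F) • u₁ + (ε * k) • u₂ := by
    rw [hQ3, y₁, tens_smul_right, Matrix.mulVec_smul, D.phi_smul, Φ₂]
    match_scalars
    all_goals field_simp
    all_goals grind
  have q₂ : D.Qmap a P₃ u₂ = (-(ε / k)) • u₁ + u₂ := by
    rw [hQ3, y₂, tens_add_right, tens_smul_right, tens_smul_right, Matrix.mulVec_add, Matrix.mulVec_smul,
      Matrix.mulVec_smul, D.phi_add, D.phi_smul, D.phi_smul, Φ₁, Φ₂]
    match_scalars
    all_goals field_simp
    all_goals grind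
  refine D.nonscalar_false hAS p (D.root_conj (D.root_PT p) hgM) he hP₃e (fun u hu h0 => ?_) fun t => ?_
  · obtain ⟨α, β, γ, rfl⟩ := hdec u
    have hγ : γ = 0 := by
      simpa [D.u2.add_left, D.u2.smul_left, hu₁e, hu₂e, he] using hu
    rw [hγ, zero_smul, add_zero] at h0 ⊢
    rw [← hP₃, map_add, map_smul, map_smul, q₁, q₂] at h0
    have h' := congrArg (D.Qmap a P₃) h0
    simp only [map_add, map_smul, map_zero, q₁, q₂] at h'
    have h'' : (-1 : F) • (α • u₁ + β • u₂) = 0 := by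
      rw [← h']
      match_scalars
      all_goals field_simp
      all_goals grind
    exact (smul_eq_zero.1 h'').resolve_left (neg_ne_zero.2 one_ne_zero)
  · refine ⟨u₁, hu₁e, fun h => ?_⟩
    rw [← hP₃, q₁] at h
    have h' := congrArg (fun x => f₂ x u₂) h
    simp only [D.u2.add_left, D.u2.smul_left, h12, ← hh₂, mul_zero, zero_add, mul_eq_zero, hk0, D.he0, hh₂0,
      or_self] at h'

theorem three_false (hAS : AllScalar M f₁) (p : Pair f₁ a c) (hP : Root σ B M P) (he : f₂ e e ≠ 0)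
    (hPe : P (tens a e) = 0) (hz : z ≠ 0) (hσz : σ z = z) (hQ : ∀ u, f₂ u e = 0 → D.Qmap a P u = z • u)
    (hR : ∀ x, phi f₁ a (P x) = 0 → P x = 0) (hsmall : ∀ r : F, σ r = r → r ≠ 0 → r * r = 1) : False := by
  obtain ⟨h2, h3, hε⟩ := D.small_field hsmall
  have hS := D.shape_of p hP he hPe (D.Pce_zero hAS p hP he hPe hz hQ hR h2) hz hQ
  set N := D.phiL c ∘ₗ P ∘ₗ tensL a
  obtain ⟨τ, δ, hτ, hδ, hch⟩ := D.cayley he (N := N) hS.adj hS.perp
  by_cases hns : ∀ t : F, ∃ u, f₂ u e = 0 ∧ N u ≠ t • u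
  · by_cases hΔ : τ * τ - δ = 1
    · obtain ⟨P', hS'⟩ := D.shift p he hz hS (r := τ / z) (by rw [map_div₀, hτ, hσz]) hσz
      rw [div_mul_cancel₀ _ hz] at hS'
      set G := N + τ • D.proj e with hG
      have hGa : ∀ u, f₂ u e = 0 → G u = N u + τ • u := fun u hu => by
        rw [hG, LinearMap.add_apply, LinearMap.smul_apply, D.proj_of_perp hu]
      refine D.three_special hAS p he hz h2 h3 hε hσz (hsmall z hσz hz) hS' (fun u hu => ?_) fun t => ?_
      · rw [hGa u hu, hGa _ (by rw [D.u2.add_left, D.u2.smul_left, hS.perp, hu, mul_zero, add_zero]), map_add,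
          map_smul, hch u hu]
        match_scalars
        · linear_combination τ * h3
        · linear_combination hΔ
      · obtain ⟨u, hu, hne⟩ := hns (t - τ)
        refine ⟨u, hu, fun h => hne ?_⟩
        rw [hGa u hu] at h
        linear_combination (norm := module) h
    · refine D.three_generic hAS p he hz hε hS (τ := τ) (δ := δ) (x := -τ + 1) hch hns (fun h => h2 ?_)
        (fun h => hΔ ?_) hσz (by rw [map_add, map_neg, map_one, hτ])
      · linear_combination -h + τ * h3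
      · linear_combination -h + (τ * τ - τ) * h3
  · push Not at hns
    obtain ⟨t, ht⟩ := hns
    obtain ⟨u, hu, hu0⟩ := D.exists_perp he
    have hσt : σ t = t := by
      have h1 := hS.adj u
      obtain ⟨w, w', H⟩ := D.exists_hyp_at he
      have h := hS.adj w w'
      rw [ht w H.we, ht w' H.de, D.u2.smul_left, smul_right D.u2, H.wd, mul_one, mul_one] at h
      exact h.symm
    obtain ⟨P', hS'⟩ := D.shift p he hz hS (r := -t / z) (by rw [map_div₀, map_neg, hσt, hσz]) hσz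
    rw [div_mul_cancel₀ _ hz] at hS'
    refine D.three_scalar hAS p he hz hS' fun x hx => ?_
    rw [LinearMap.add_apply, LinearMap.smul_apply, D.proj_of_perp hx, ht x hx, neg_smul, add_neg_cancel]

theorem aniso_false (hAS : AllScalar M f₁) (p : Pair f₁ a c) (hP : Root σ B M P) (he : f₂ e e ≠ 0)
    (hPe : P (tens a e) = 0) (hX : ∀ u, phi f₁ a (P (tens a u)) = 0 → u ∈ Submodule.span F {e})
    (hR : ∀ x, phi f₁ a (P x) = 0 → P x = 0) : False := by
  have hinj : ∀ u, f₂ u e = 0 → D.Qmap a P u = 0 → u = 0 := by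
    intro u hu h0
    rw [D.Qmap_apply, smul_eq_zero, or_iff_right D.he0] at h0
    obtain ⟨t, rfl⟩ := Submodule.mem_span_singleton.1 (hX u h0)
    rw [D.u2.smul_left, mul_eq_zero, or_iff_left he] at hu
    rw [hu, zero_smul]
  by_cases hns : ∀ t : F, ∃ u, f₂ u e = 0 ∧ D.Qmap a P u ≠ t • u
  · exact D.nonscalar_false hAS p hP he hPe hinj hns
  push Not at hns
  obtain ⟨z, hz⟩ := hns
  obtain ⟨u, hu, hu0⟩ := D.exists_perp he
  have hz0 : z ≠ 0 := fun h => hu0 (hinj u hu (by rw [hz u hu, h, zero_smul]))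
  obtain ⟨w, w', H⟩ := D.exists_hyp_at he
  have hσz : σ z = z := by
    have h := D.Q_adj hP (a := a) w w'
    rw [hz w H.we, hz w' H.de, D.u2.smul_left, smul_right D.u2, H.wd, mul_one, mul_one] at h
    exact h.symm
  by_cases hk : ∃ k : F, σ k = k ∧ k ≠ 0 ∧ k * k ≠ 1
  · obtain ⟨k, hk, hk0, hk1⟩ := hk
    exact D.scalar_false hAS p hP he hPe hz0 hσz hz hk hk0 hk1
  · push Not at hk
    exact D.three_false hAS p hP he hPe hz0 hσz hz hR hk

end Data

end Cfsg.Agent.Lib.UnitTwoThree
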